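import Mathlib
import Cfsg.Prelude.Def_BaumannBlocks
import Cfsg.Prelude.Def_PLocal
import Cfsg.Agent.Lib.Helper15.MinimalCL
import Cfsg.Agent.Lib.Helper23.MCLDefs

/-!
# S3008 part (2), piece MCL-FONE (helper8)

`H` an abelian member of the Chermak–Delgado lattice, `B` abelian of largest order: `C_B(H) H` is abelian of
largest order; every abelian member lies in the Thompson subgroup `J(G)`.
-/

set_option autoImplicit false
set_option linter.unusedSectionVars false
set_option linter.unusedVariables false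

namespace Cfsg.Agent.Helper23.MCL

open scoped Pointwise
open Cfsg.Agent.Helper15

variable {G : Type*} [Group G]

/-- the centralizer of an abelian member is centrally large -/
theorem mcl_fone_isCentrallyLarge [Finite G] {H : Subgroup G} (hH : AbCD H) :
    Cfsg.IsCentrallyLarge (Subgroup.centralizer (H : Set G)) := by
  rw [isCentrallyLarge_iff]
  refine ⟨IsCentralizerLarge.centralizer hH.1, ?_⟩
  rw [IsCentralizerLarge.centralizer_centralizer hH.1]
  exact hH.2

/-- PIECE MCL-FONE [L1] (1/2). -/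
theorem abcd_maxAbelian [Finite G] {H B : Subgroup G} (hH : AbCD H)
    (hB : B ∈ Cfsg.maxAbelianSubgroups G) :
    ((Subgroup.centralizer (H : Set G) ⊓ B) ⊔ H) ∈ Cfsg.maxAbelianSubgroups G ∧
    (((Subgroup.centralizer (H : Set G) ⊓ B) ⊔ H : Subgroup G) : Set G) =
      ((Subgroup.centralizer (H : Set G) ⊓ B : Subgroup G) : Set G) * (H : Set G) ∧
    Nat.card ↥(Subgroup.centralizer (H : Set G) ⊓ B : Subgroup G) * Nat.card H =
      Nat.card B * Nat.card ↥(H ⊓ B : Subgroup G) := by
  have hQ := mcl_fone_isCentrallyLarge hH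
  obtain ⟨_, _, h3, h4⟩ := IsCentrallyLarge.maxAbelian_key hQ hB
  rw [IsCentralizerLarge.centralizer_centralizer hH.1] at h3 h4
  refine ⟨h3, h4, ?_⟩
  have h5 := card_mul_card_eq_of_coe_sup_eq_mul h4
  have hinf : (Subgroup.centralizer (H : Set G) ⊓ B) ⊓ H = H ⊓ B := by
    rw [inf_comm, ← inf_assoc, inf_eq_left.2 hH.2]
  rw [hinf] at h5
  have hcard : Nat.card ↥((Subgroup.centralizer (H : Set G) ⊓ B) ⊔ H : Subgroup G) = Nat.card B :=
    le_antisymm (hB.2 _ h3.1) (h3.2 B hB.1)
  rw [hcard] at h5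
  exact h5

/-- PIECE MCL-FONE (2/2). -/
theorem abcd_le_thompson [Finite G] {H : Subgroup G} (hH : AbCD H) :
    H ≤ Cfsg.thompsonSubgroupA G := by
  obtain ⟨B, hB⟩ := exists_maxAbelian G
  have h := (abcd_maxAbelian hH hB).1
  unfold Cfsg.thompsonSubgroupA
  exact le_sup_right.trans (le_sSup h)

end Cfsg.Agent.Helper23.MCL
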