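import Mathlib

/-!
# S3008 part (2), PIECE MCL-LCS (helper6, for helper23): the lower central series of `⊤` is a descending
central series, in elementwise form.
-/

set_option autoImplicit false
set_option linter.unusedSectionVars false
set_option linter.unusedVariables false

namespace Cfsg.Agent.Helper23.MCL

open scoped Pointwise
open scoped commutatorElement

variable {G : Type*} [Group G]

/-- PIECE MCL-LCS [L1]. -/
theorem lcs_facts : (⊤ : Subgroup G).lowerCentralSeries 0 = ⊤ ∧
    (∀ j, (⊤ : Subgroup G).lowerCentralSeries (j + 1) ≤ (⊤ : Subgroup G).lowerCentralSeries j) ∧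
    ∀ j, ∀ y ∈ (⊤ : Subgroup G).lowerCentralSeries j, ∀ c : G,
      y⁻¹ * (c * y * c⁻¹) ∈ (⊤ : Subgroup G).lowerCentralSeries (j + 1) := by
  refine ⟨rfl, fun j => Subgroup.lowerCentralSeries_antitone _ (Nat.le_succ j), ?_⟩
  intro j y hy c
  rw [Subgroup.lowerCentralSeries_succ]
  have h := Subgroup.commutator_mem_commutator (inv_mem hy) (Subgroup.mem_top c)
  have he : ⁅y⁻¹, c⁆ = y⁻¹ * (c * y * c⁻¹) := by
    rw [commutatorElement_def]; group
  rw [he] at h
  exact h

end Cfsg.Agent.Helper23.MCL
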