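import Mathlib
import Cfsg.Prelude.Def_BaumannBlocks
import Cfsg.Agent.Lib.Helper15.MinimalCL
import Cfsg.Agent.Lib.Helper23.MCLDefs

/-!
# S3008 part (2) piece MCL-MIN (helper22): the bijection `A ↔ C(A)` between maximal abelian members of the
Chermak–Delgado lattice and minimal centrally large subgroups.
-/

set_option autoImplicit false
set_option linter.unusedSectionVars false
set_option linter.unusedVariables false

namespace Cfsg.Agent.Helper23.MCL

open scoped Pointwise
open Cfsg.Agent.Helper15

variable {G : Type*} [Group G]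

/-- if `C(R) ≤ R` then `C(R)` is abelian. -/
theorem mcl_min_abelian_of_le {R : Subgroup G} (h : Subgroup.centralizer (R : Set G) ≤ R) :
    Subgroup.centralizer (R : Set G) ≤
      Subgroup.centralizer ((Subgroup.centralizer (R : Set G) : Subgroup G) : Set G) := by
  intro x hx
  rw [Subgroup.mem_centralizer_iff]
  intro y hy
  exact (Subgroup.mem_centralizer_iff.1 hx y (h hy))

theorem isMinimalCentrallyLarge_of_isS [Finite G] {A : Subgroup G} (hA : IsS A) :
    Cfsg.IsMinimalCentrallyLarge (Subgroup.centralizer (A : Set G)) := by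
  obtain ⟨⟨hAm, hAab⟩, hAmax⟩ := hA
  have hQm : Cfsg.IsCentralizerLarge (Subgroup.centralizer (A : Set G)) :=
    IsCentralizerLarge.centralizer hAm
  have hCC : Subgroup.centralizer ((Subgroup.centralizer (A : Set G) : Subgroup G) : Set G) = A :=
    IsCentralizerLarge.centralizer_centralizer hAm
  refine ⟨isCentrallyLarge_iff.2 ⟨hQm, ?_⟩, ?_⟩
  · rw [hCC]; exact hAab
  · intro R hRQ hR
    obtain ⟨hRm, hRc⟩ := isCentrallyLarge_iff.1 hR
    have hab : AbCD (Subgroup.centralizer (R : Set G)) :=
      ⟨IsCentralizerLarge.centralizer hRm, mcl_min_abelian_of_le hRc⟩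
    have hAle : A ≤ Subgroup.centralizer (R : Set G) := by
      rw [← hCC]
      exact Subgroup.centralizer_le hRQ
    have h1 : Subgroup.centralizer (R : Set G) = A := hAmax _ hab hAle
    rw [← IsCentralizerLarge.centralizer_centralizer hRm, h1]

theorem isS_of_isMinimalCentrallyLarge [Finite G] {Q : Subgroup G}
    (hQ : Cfsg.IsMinimalCentrallyLarge Q) :
    IsS (Subgroup.centralizer (Q : Set G)) ∧
      Subgroup.centralizer ((Subgroup.centralizer (Q : Set G) : Subgroup G) : Set G) = Q := by
  obtain ⟨hQcl, hQmin⟩ := hQ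
  obtain ⟨hQm, hQc⟩ := isCentrallyLarge_iff.1 hQcl
  have hCC : Subgroup.centralizer ((Subgroup.centralizer (Q : Set G) : Subgroup G) : Set G) = Q :=
    IsCentralizerLarge.centralizer_centralizer hQm
  refine ⟨⟨⟨IsCentralizerLarge.centralizer hQm, mcl_min_abelian_of_le hQc⟩, ?_⟩, hCC⟩
  intro A' hA' hle
  obtain ⟨hA'm, hA'ab⟩ := hA'
  have hRm : Cfsg.IsCentralizerLarge (Subgroup.centralizer (A' : Set G)) :=
    IsCentralizerLarge.centralizer hA'm
  have hCC' : Subgroup.centralizer ((Subgroup.centralizer (A' : Set G) : Subgroup G) : Set G) = A' :=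
    IsCentralizerLarge.centralizer_centralizer hA'm
  have hRcl : Cfsg.IsCentrallyLarge (Subgroup.centralizer (A' : Set G)) := by
    refine isCentrallyLarge_iff.2 ⟨hRm, ?_⟩
    rw [hCC']; exact hA'ab
  have hRQ : Subgroup.centralizer (A' : Set G) ≤ Q := by
    rw [← hCC]
    exact Subgroup.centralizer_le hle
  have h1 : Subgroup.centralizer (A' : Set G) = Q := hQmin _ hRQ hRcl
  rw [← hCC', h1]

end Cfsg.Agent.Helper23.MCL
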