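import Mathlib
import Cfsg.Prelude.Def_BaumannBlocks
import Cfsg.Prelude.Def_PLocal
import Cfsg.Agent.Lib.Helper15.MinimalCL
import Cfsg.Agent.Lib.Helper23.MCLDefs

/-!
# S3008 part (2) piece MCL-BNORM (helper3): consequences of a replacement datum `Repl A A' Astar E b`.
-/

set_option autoImplicit false
set_option linter.unusedSectionVars false
set_option linter.unusedVariables false

namespace Cfsg.Agent.Helper23.MCL

open scoped Pointwise
open Cfsg.Agent.Helper15

variable {G : Type*} [Group G]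

/-- two subgroups of `G₁` whose product set is large enough fill `G₁` -/
theorem mcl_bnorm_eq_mul [Finite G] {G₁ X Y : Subgroup G} (hX : X ≤ G₁) (hY : Y ≤ G₁)
    (hcard : Nat.card G₁ * Nat.card ↥(X ⊓ Y : Subgroup G) ≤ Nat.card X * Nat.card Y) :
    ((G₁ : Subgroup G) : Set G) = (X : Set G) * (Y : Set G) := by
  have hsub : (X : Set G) * (Y : Set G) ⊆ (G₁ : Set G) := by
    rintro _ ⟨x, hx, y, hy, rfl⟩
    exact G₁.mul_mem (hX hx) (hY hy)
  have hc2 := card_mul_set_mul_card_inf X Y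
  rw [← hc2] at hcard
  have hpos : 0 < Nat.card ↥(X ⊓ Y : Subgroup G) := Nat.card_pos
  have h2 : Nat.card G₁ ≤ Nat.card ↥((X : Set G) * (Y : Set G)) := Nat.le_of_mul_le_mul_right hcard hpos
  symm
  apply Set.eq_of_subset_of_ncard_le hsub _ (Set.toFinite _)
  rw [← Nat.card_coe_set_eq, ← Nat.card_coe_set_eq]
  exact h2

/-- PIECE MCL-BNORM [L1]. -/
theorem repl_facts [Finite G] {A A' Astar E : Subgroup G} {b : G} (h : Repl A A' Astar E b) :
    ((A ⊔ A' : Subgroup G) : Set G) = (A : Set G) * (Astar : Set G) ∧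
    ((A ⊔ A' : Subgroup G) : Set G) = (A' : Set G) * (Astar : Set G) ∧
    cj b (A ⊔ A') = A ⊔ A' ∧ cj b E = E ∧
    ∀ x ∈ Astar, x⁻¹ * (b * x * b⁻¹) ∈ E := by
  have hcardA' : Nat.card A' = Nat.card A := by
    rw [h.hA']
    exact card_map_conj A b
  have hG1 : Nat.card A * Nat.card A' =
      Nat.card ↥(A ⊔ A' : Subgroup G) * Nat.card ↥(A ⊓ A' : Subgroup G) :=
    card_mul_card_eq_of_coe_sup_eq_mul h.coe_sup
  -- (a)
  have ha : ((A ⊔ A' : Subgroup G) : Set G) = (A : Set G) * (Astar : Set G) := by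
    apply mcl_bnorm_eq_mul le_sup_left h.star_le
    have e1 : A ⊓ Astar = A ⊓ A' := by rw [inf_comm, h.infA, h.hE]
    rw [e1, ← hG1, hcardA', h.card_eq]
  have ha' : ((A ⊔ A' : Subgroup G) : Set G) = (A' : Set G) * (Astar : Set G) := by
    apply mcl_bnorm_eq_mul le_sup_right h.star_le
    have e1 : A' ⊓ Astar = A ⊓ A' := by rw [inf_comm, h.infA', h.hE]
    rw [e1, ← hG1, h.card_eq, mul_comm]
  -- (b)
  have hEA' : E ≤ A' := by rw [h.hE]; exact inf_le_right
  have hle : A ⊔ A' ≤ (A ⊔ A').map (MulAut.conj b).toMonoidHom := by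
    intro y hy
    have hy' : y ∈ ((A ⊔ A' : Subgroup G) : Set G) := hy
    rw [ha'] at hy'
    obtain ⟨u, hu, x, hx, rfl⟩ := hy'
    have hu' : u ∈ (A ⊔ A').map (MulAut.conj b).toMonoidHom := by
      have hu1 : u ∈ A' := hu
      rw [h.hA'] at hu1
      exact map_conj_mono le_sup_left b hu1
    have hx' : x ∈ (A ⊔ A').map (MulAut.conj b).toMonoidHom := by
      obtain ⟨e, he, β, hβ, hbβ, rfl⟩ := h.fix x hx
      have he' : e ∈ (A ⊔ A').map (MulAut.conj b).toMonoidHom := by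
        have he1 : e ∈ A' := hEA' he
        rw [h.hA'] at he1
        exact map_conj_mono le_sup_left b he1
      have hβ' : β ∈ (A ⊔ A').map (MulAut.conj b).toMonoidHom := by
        have := conj_mem_map_conj b hβ
        have e2 : b * β * b⁻¹ = β := by rw [hbβ]; group
        rwa [e2] at this
      exact ((A ⊔ A').map (MulAut.conj b).toMonoidHom).mul_mem he' hβ'
    exact ((A ⊔ A').map (MulAut.conj b).toMonoidHom).mul_mem hu' hx'
  have hb : (A ⊔ A').map (MulAut.conj b).toMonoidHom = A ⊔ A' := by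
    symm
    apply Subgroup.eq_of_le_of_card_ge hle
    rw [card_map_conj]
  -- (c)
  have hc : E.map (MulAut.conj b).toMonoidHom = E := by
    have e1 : E.map (MulAut.conj b).toMonoidHom = (A ⊔ A').map (MulAut.conj b).toMonoidHom ⊓
        (Subgroup.centralizer ((A ⊔ A' : Subgroup G) : Set G)).map (MulAut.conj b).toMonoidHom := by
      rw [← h.center]
      exact Subgroup.map_inf _ _ _ (MulAut.conj b).injective
    rw [e1, ← centralizer_map_conj, hb, h.center]
  -- (d)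
  refine ⟨ha, ha', hb, hc, ?_⟩
  intro x hx
  obtain ⟨e, he, β, hβ, hbβ, rfl⟩ := h.fix x hx
  have hbe : b * e * b⁻¹ ∈ E := by
    have := conj_mem_map_conj b he
    rwa [hc] at this
  have hz : e⁻¹ * (b * e * b⁻¹) ∈ E := E.mul_mem (E.inv_mem he) hbe
  have hzc : e⁻¹ * (b * e * b⁻¹) ∈ Subgroup.centralizer ((A ⊔ A' : Subgroup G) : Set G) := by
    have : e⁻¹ * (b * e * b⁻¹) ∈
        (A ⊔ A') ⊓ Subgroup.centralizer ((A ⊔ A' : Subgroup G) : Set G) := by
      rw [h.center]; exact hz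
    exact this.2
  have hcomm : β * (e⁻¹ * (b * e * b⁻¹)) = (e⁻¹ * (b * e * b⁻¹)) * β :=
    (Subgroup.mem_centralizer_iff.1 hzc) β hβ
  have e3 : (e * β)⁻¹ * (b * (e * β) * b⁻¹) = β⁻¹ * ((e⁻¹ * (b * e * b⁻¹)) * β) := by
    have e4 : b * (e * β) * b⁻¹ = (b * e * b⁻¹) * (b * β * b⁻¹) := by group
    have e5 : b * β * b⁻¹ = β := by rw [hbβ]; group
    rw [e4, e5]
    group
  rw [e3, ← hcomm]
  have e6 : β⁻¹ * (β * (e⁻¹ * (b * e * b⁻¹))) = e⁻¹ * (b * e * b⁻¹) := by group
  rw [e6]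
  exact hz

end Cfsg.Agent.Helper23.MCL
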