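import Mathlib
import Cfsg.Agent.Lib.Helper23.MCLDefs

/-!
# S3008 part (2), piece MCL-MONO (helper23), core: `|A ∩ V| ≤ |Astar ∩ V|` for normal `V`, with the
statement of `repl_facts` (MCL-BNORM) as a hypothesis.
-/

set_option autoImplicit false

namespace Cfsg.Agent.Helper23.MCL

open scoped Pointwise
open Cfsg.Agent.Helper15

variable {G : Type*} [Group G]

/-- `|X V| |X ∩ V| = |X| |V|` for normal `V` -/
theorem mcl_mono_card_sup_normal [Finite G] (X V : Subgroup G) [V.Normal] :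
    Nat.card ↥(X ⊔ V : Subgroup G) * Nat.card ↥(X ⊓ V : Subgroup G) = Nat.card X * Nat.card V := by
  rw [← card_mul_set_mul_card_inf X V, ← Subgroup.mul_normal X V]
  rfl

/-- conjugating `X ⊔ V`, `V` normal -/
theorem mcl_mono_cj_sup_normal (X V : Subgroup G) [hV : V.Normal] (b : G) :
    cj b (X ⊔ V) = cj b X ⊔ V := by
  unfold cj
  rw [Subgroup.map_sup]
  congr 1
  ext x
  rw [mem_map_conj_iff]
  constructor
  · intro h
    have := hV.conj_mem _ h b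
    simpa [mul_assoc] using this
  · intro h
    have := hV.conj_mem _ h b⁻¹
    simpa [mul_assoc] using this

/-- if `G₁ = X Y` as sets then `(X ⊔ V) ⊔ (Y ⊔ V)` is the set product `(X ⊔ V) (Y ⊔ V)` -/
theorem mcl_mono_coe_sup [Finite G] {G₁ X Y : Subgroup G} (V : Subgroup G) [V.Normal]
    (hXY : (G₁ : Set G) = (X : Set G) * (Y : Set G)) (hX : X ≤ G₁) (hY : Y ≤ G₁) :
    (((X ⊔ V) ⊔ (Y ⊔ V) : Subgroup G) : Set G) = ((X ⊔ V : Subgroup G) : Set G) * ((Y ⊔ V : Subgroup G) : Set G) ∧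
      (X ⊔ V) ⊔ (Y ⊔ V) = G₁ ⊔ V := by
  have hsup : (X ⊔ V) ⊔ (Y ⊔ V) = G₁ ⊔ V := by
    apply le_antisymm
    · exact sup_le (sup_le (hX.trans le_sup_left) le_sup_right) (sup_le (hY.trans le_sup_left) le_sup_right)
    · apply sup_le _ (le_sup_right.trans le_sup_left)
      intro g hg
      have hg' : g ∈ (G₁ : Set G) := hg
      rw [hXY] at hg'
      obtain ⟨x, hx, y, hy, rfl⟩ := Set.mem_mul.1 hg'
      exact Subgroup.mul_mem _ (le_sup_left (a := X ⊔ V) (le_sup_left (a := X) hx))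
        (le_sup_right (b := Y ⊔ V) (le_sup_left (a := Y) hy))
  refine ⟨?_, hsup⟩
  apply Set.Subset.antisymm _ (mul_set_subset_sup _ _)
  rw [hsup]
  intro w hw
  have hw' : w ∈ ((G₁ ⊔ V : Subgroup G) : Set G) := hw
  rw [Subgroup.mul_normal G₁ V] at hw'
  obtain ⟨g, hg, v, hv, rfl⟩ := Set.mem_mul.1 hw'
  have hg' : g ∈ (G₁ : Set G) := hg
  rw [hXY] at hg'
  obtain ⟨x, hx, y, hy, rfl⟩ := Set.mem_mul.1 hg'
  rw [mul_assoc]
  exact Set.mul_mem_mul (le_sup_left (a := X) hx : x ∈ X ⊔ V)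
    (Subgroup.mul_mem _ (le_sup_left (a := Y) hy) (le_sup_right (b := V) hv) : y * v ∈ Y ⊔ V)

/-- core of MCL-MONO: `|A ∩ V| ≤ |Astar ∩ V|` for normal `V`, from the conclusion of `repl_facts`. -/
theorem mcl_mono_core [Finite G] {A A' Astar E : Subgroup G} {b : G}
    (h : Repl A A' Astar E b)
    (hf : ((A ⊔ A' : Subgroup G) : Set G) = (A : Set G) * (Astar : Set G) ∧
      ((A ⊔ A' : Subgroup G) : Set G) = (A' : Set G) * (Astar : Set G) ∧
      cj b (A ⊔ A') = A ⊔ A' ∧ cj b E = E ∧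
      ∀ x ∈ Astar, x⁻¹ * (b * x * b⁻¹) ∈ E)
    (V : Subgroup G) [hV : V.Normal] :
    Nat.card ↥(A ⊓ V : Subgroup G) ≤ Nat.card ↥(Astar ⊓ V : Subgroup G) := by
  obtain ⟨f1, f2, f3, f4, f5⟩ := hf
  have hEA' : E ≤ A' := by rw [h.hE]; exact inf_le_right
  -- the two product decompositions
  obtain ⟨c1, s1⟩ := mcl_mono_coe_sup V h.coe_sup le_sup_left le_sup_right
  obtain ⟨c2, s2⟩ := mcl_mono_coe_sup V f1 le_sup_left h.star_le
  have e1 := card_mul_card_eq_of_coe_sup_eq_mul c1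
  have e2 := card_mul_card_eq_of_coe_sup_eq_mul c2
  rw [s1] at e1
  rw [s2] at e2
  -- `|A' V| = |A V|`
  have hcj : cj b (A ⊔ V) = A' ⊔ V := by rw [mcl_mono_cj_sup_normal, ← h.hA']
  have e3 : Nat.card ↥(A' ⊔ V : Subgroup G) = Nat.card ↥(A ⊔ V : Subgroup G) := by
    rw [← hcj]; exact card_map_conj _ _
  -- the inclusion
  have hincl : (A ⊔ V) ⊓ (Astar ⊔ V) ≤ (A ⊔ V) ⊓ (A' ⊔ V) := by
    intro x hx
    refine ⟨hx.1, ?_⟩
    have hx2 : x ∈ ((Astar ⊔ V : Subgroup G) : Set G) := hx.2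
    rw [Subgroup.mul_normal Astar V] at hx2
    obtain ⟨z, hz, v, hv, rfl⟩ := Set.mem_mul.1 hx2
    have hb : b * (z * v) * b⁻¹ ∈ A' ⊔ V := by
      rw [← hcj]; exact conj_mem_map_conj b hx.1
    have he1 : z⁻¹ * (b * z * b⁻¹) ∈ A' ⊔ V := le_sup_left (a := A') (hEA' (f5 z hz))
    have hv' : b * v * b⁻¹ ∈ A' ⊔ V := le_sup_right (b := V) (hV.conj_mem v hv b)
    have hvV : v ∈ A' ⊔ V := le_sup_right (b := V) hv
    have : z * v = (b * (z * v) * b⁻¹) * (b * v * b⁻¹)⁻¹ * (z⁻¹ * (b * z * b⁻¹))⁻¹ * v := by group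
    rw [this]
    exact Subgroup.mul_mem _ (Subgroup.mul_mem _ (Subgroup.mul_mem _ hb (Subgroup.inv_mem _ hv'))
      (Subgroup.inv_mem _ he1)) hvV
  have hle : Nat.card ↥((A ⊔ V) ⊓ (Astar ⊔ V) : Subgroup G) ≤
      Nat.card ↥((A ⊔ V) ⊓ (A' ⊔ V) : Subgroup G) :=
    Nat.card_mono (Set.toFinite _) hincl
  -- `|Astar V| ≤ |A V|`
  have hpos1 : 0 < Nat.card ↥(A ⊔ V : Subgroup G) := Nat.card_pos
  have hposW : 0 < Nat.card ↥((A ⊔ A') ⊔ V : Subgroup G) := Nat.card_pos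
  have h4 : Nat.card ↥(Astar ⊔ V : Subgroup G) ≤ Nat.card ↥(A ⊔ V : Subgroup G) := by
    have : Nat.card ↥(A ⊔ V : Subgroup G) * Nat.card ↥(Astar ⊔ V : Subgroup G) ≤
        Nat.card ↥(A ⊔ V : Subgroup G) * Nat.card ↥(A ⊔ V : Subgroup G) := by
      calc Nat.card ↥(A ⊔ V : Subgroup G) * Nat.card ↥(Astar ⊔ V : Subgroup G)
          = Nat.card ↥((A ⊔ A') ⊔ V : Subgroup G) * Nat.card ↥((A ⊔ V) ⊓ (Astar ⊔ V) : Subgroup G) := e2
        _ ≤ Nat.card ↥((A ⊔ A') ⊔ V : Subgroup G) * Nat.card ↥((A ⊔ V) ⊓ (A' ⊔ V) : Subgroup G) :=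
            Nat.mul_le_mul_left _ hle
        _ = Nat.card ↥(A ⊔ V : Subgroup G) * Nat.card ↥(A' ⊔ V : Subgroup G) := e1.symm
        _ = Nat.card ↥(A ⊔ V : Subgroup G) * Nat.card ↥(A ⊔ V : Subgroup G) := by rw [e3]
    exact Nat.le_of_mul_le_mul_left this hpos1
  -- conclude
  have g1 := mcl_mono_card_sup_normal A V
  have g2 := mcl_mono_card_sup_normal Astar V
  rw [h.card_eq] at g2
  have hpos2 : 0 < Nat.card ↥(Astar ⊔ V : Subgroup G) := Nat.card_pos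
  have : Nat.card ↥(Astar ⊔ V : Subgroup G) * Nat.card ↥(A ⊓ V : Subgroup G) ≤
      Nat.card ↥(Astar ⊔ V : Subgroup G) * Nat.card ↥(Astar ⊓ V : Subgroup G) := by
    calc Nat.card ↥(Astar ⊔ V : Subgroup G) * Nat.card ↥(A ⊓ V : Subgroup G)
        ≤ Nat.card ↥(A ⊔ V : Subgroup G) * Nat.card ↥(A ⊓ V : Subgroup G) :=
          Nat.mul_le_mul_right _ h4
      _ = Nat.card A * Nat.card V := g1
      _ = Nat.card ↥(Astar ⊔ V : Subgroup G) * Nat.card ↥(Astar ⊓ V : Subgroup G) := g2.symm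
  exact Nat.le_of_mul_le_mul_left this hpos2

end Cfsg.Agent.Helper23.MCL
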