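import Mathlib
import Cfsg.Agent.Lib.Helper23.MCLDefs
import Cfsg.Agent.Lib.MCL.MCLMONOCore
import Cfsg.Agent.Lib.MCL.MCLBNORM

/-!
# S3008 part (2), piece MCL-MONO (helper23): `|A ∩ V| ≤ |Astar ∩ V|` for normal `V`.
-/

set_option autoImplicit false

namespace Cfsg.Agent.Helper23.MCL

open scoped Pointwise
open Cfsg.Agent.Helper15

variable {G : Type*} [Group G]

/-- PIECE MCL-MONO [L2', uses BNORM]: `|A ∩ V| ≤ |Astar ∩ V|` for normal `V`. -/
theorem card_inf_normal_le [Finite G] {A A' Astar E : Subgroup G} {b : G}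
    (h : Repl A A' Astar E b) (V : Subgroup G) [V.Normal] :
    Nat.card ↥(A ⊓ V : Subgroup G) ≤ Nat.card ↥(Astar ⊓ V : Subgroup G) :=
  mcl_mono_core h (repl_facts h) V

end Cfsg.Agent.Helper23.MCL
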