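import Mathlib
import Cfsg.Prelude.Def_BaumannBlocks
import Cfsg.Prelude.Def_PLocal
import Cfsg.Agent.Lib.Helper15.MinimalCL
import Cfsg.Agent.Lib.Helper23.MCLDefs

/-!
# S3008 part (2) piece MCL-CONJ (helper3): conjugates of maximal abelian members of the Chermak–Delgado lattice.
-/

set_option autoImplicit false
set_option linter.unusedSectionVars false
set_option linter.unusedVariables false

namespace Cfsg.Agent.Helper23.MCL

open scoped Pointwise
open Cfsg.Agent.Helper15

variable {G : Type*} [Group G]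

theorem mcl_conj_abcd_cj {A : Subgroup G} (hA : AbCD A) (b : G) : AbCD (cj b A) := by
  refine ⟨IsCentralizerLarge.map_conj hA.1 b, ?_⟩
  rw [centralizer_map_conj]
  exact map_conj_mono hA.2 b

/-- PIECE MCL-CONJ [L1]: conjugates of maximal abelian members. -/
theorem isS_cj [Finite G] {A : Subgroup G} (hA : IsS A) (b : G) : IsS (cj b A) := by
  refine ⟨mcl_conj_abcd_cj hA.1 b, ?_⟩
  intro A' hA' hle
  have h1 : AbCD (cj b⁻¹ A') := mcl_conj_abcd_cj hA' b⁻¹
  have h2 : A ≤ cj b⁻¹ A' := by
    have := map_conj_mono hle b⁻¹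
    rwa [map_conj_inv_map_conj] at this
  have h3 := hA.2 _ h1 h2
  calc A' = cj b (cj b⁻¹ A') := (map_conj_map_conj_inv A' b).symm
    _ = cj b A := by rw [h3]

end Cfsg.Agent.Helper23.MCL
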