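import Mathlib
import Cfsg.Prelude.Def_BaumannBlocks
import Cfsg.Agent.Lib.Helper15.MinimalCL
import Cfsg.Agent.Lib.Helper23.MCLDefs

/-! MCL-ORD (S3008 part (2), design helper23; by helper27): maximal abelian members of the
Chermak–Delgado lattice have the largest order among the abelian members. -/

set_option autoImplicit false
set_option linter.unusedSectionVars false
set_option linter.unusedVariables false

namespace Cfsg.Agent.Helper23.MCL

open scoped Pointwise
open Cfsg.Agent.Helper15

variable {G : Type*} [Group G]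

/-- local copy of the statement of MCL-SUP (1/2) -/
theorem mcl_ord_abcd_sup [Finite G] {H K : Subgroup G} (hH : AbCD H) (hK : AbCD K)
    (hHK : H ≤ Subgroup.centralizer (K : Set G)) : AbCD (H ⊔ K) := by
  refine ⟨IsCentralizerLarge.sup hH.1 hK.1, ?_⟩
  rw [centralizer_sup]
  have hKH : K ≤ Subgroup.centralizer (H : Set G) := Subgroup.le_centralizer_iff.mp hHK
  exact sup_le (le_inf hH.2 hHK) (le_inf hKH hK.2)

/-- local copy of the statement of MCL-SUP (2/2) -/
theorem mcl_ord_abcd_inf [Finite G] {H K : Subgroup G} (hH : AbCD H)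
    (hK : Cfsg.IsCentralizerLarge K) : AbCD (H ⊓ K) := by
  refine ⟨IsCentralizerLarge.inf hH.1 hK, ?_⟩
  exact (inf_le_left.trans hH.2).trans
    (Subgroup.centralizer_le (SetLike.coe_subset_coe.2 inf_le_left))

/-- PIECE MCL-ORD [L1] (1/2) -/
theorem card_le_of_isS [Finite G] {A H : Subgroup G} (hA : IsS A) (hH : AbCD H) :
    Nat.card H ≤ Nat.card A := by
  have hQ : Cfsg.IsCentralizerLarge (Subgroup.centralizer (A : Set G)) :=
    IsCentralizerLarge.centralizer hA.1.1
  have hCQ : Subgroup.centralizer ((Subgroup.centralizer (A : Set G) : Subgroup G) : Set G) = A :=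
    IsCentralizerLarge.centralizer_centralizer hA.1.1
  have hHQ : AbCD (H ⊓ Subgroup.centralizer (A : Set G)) := mcl_ord_abcd_inf hH hQ
  have h0 : H ⊓ Subgroup.centralizer (A : Set G) ≤ Subgroup.centralizer (A : Set G) := inf_le_right
  have h1 : A ≤ Subgroup.centralizer ((H ⊓ Subgroup.centralizer (A : Set G) : Subgroup G) : Set G) :=
    Subgroup.le_centralizer_iff.mp h0
  have h2 : AbCD (A ⊔ (H ⊓ Subgroup.centralizer (A : Set G))) := mcl_ord_abcd_sup hA.1 hHQ h1
  have h3 : A ⊔ (H ⊓ Subgroup.centralizer (A : Set G)) = A := hA.2 _ h2 le_sup_left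
  have h4 : H ⊓ Subgroup.centralizer (A : Set G) ≤ A :=
    (le_sup_right : H ⊓ Subgroup.centralizer (A : Set G) ≤
      A ⊔ (H ⊓ Subgroup.centralizer (A : Set G))).trans (le_of_eq h3)
  have hHQs : Cfsg.IsCentralizerLarge (H ⊔ Subgroup.centralizer (A : Set G)) :=
    IsCentralizerLarge.sup hH.1 hQ
  have hcoe := IsCentralizerLarge.coe_sup hH.1 hQ
  have hcard := card_mul_card_eq_of_coe_sup_eq_mul hcoe
  have hcent : Subgroup.centralizer ((H ⊔ Subgroup.centralizer (A : Set G) : Subgroup G) : Set G) =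
      Subgroup.centralizer (H : Set G) ⊓ A := by
    rw [centralizer_sup, hCQ]
  have h6 : H ⊓ Subgroup.centralizer (A : Set G) ≤
      Subgroup.centralizer ((H ⊔ Subgroup.centralizer (A : Set G) : Subgroup G) : Set G) := by
    rw [hcent]
    exact le_inf (inf_le_left.trans hH.2) h4
  have h7 : Nat.card ↥(H ⊓ Subgroup.centralizer (A : Set G) : Subgroup G) ≤
      Nat.card ↥(Subgroup.centralizer
        ((H ⊔ Subgroup.centralizer (A : Set G) : Subgroup G) : Set G)) :=
    Subgroup.card_le_of_le h6
  have hm1 : Nat.card ↥(H ⊔ Subgroup.centralizer (A : Set G) : Subgroup G) *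
      Nat.card ↥(Subgroup.centralizer
        ((H ⊔ Subgroup.centralizer (A : Set G) : Subgroup G) : Set G)) =
      Cfsg.maxCentralizerProduct G := hHQs
  have hm2 : Nat.card A * Nat.card ↥(Subgroup.centralizer (A : Set G)) =
      Cfsg.maxCentralizerProduct G := hA.1.1
  have h8 : Nat.card H * Nat.card ↥(Subgroup.centralizer (A : Set G)) ≤
      Nat.card A * Nat.card ↥(Subgroup.centralizer (A : Set G)) := by
    rw [hcard, hm2, ← hm1]
    exact Nat.mul_le_mul_left _ h7
  exact Nat.le_of_mul_le_mul_right h8 Nat.card_pos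

/-- PIECE MCL-ORD (2/2). -/
theorem isS_of_card_le [Finite G] {A H : Subgroup G} (hA : IsS A) (hH : AbCD H)
    (h : Nat.card A ≤ Nat.card H) : IsS H := by
  refine ⟨hH, ?_⟩
  intro A' hA' hle
  symm
  apply Subgroup.eq_of_le_of_card_ge hle
  exact (card_le_of_isS hA hA').trans h

end Cfsg.Agent.Helper23.MCL
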