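import Mathlib
import Cfsg.Prelude.Def_BaumannBlocks
import Cfsg.Agent.Lib.Helper15.MinimalCL
import Cfsg.Agent.Lib.Helper23.MCLDefs
import Cfsg.Agent.Lib.MCL.MCLORD

/-! MCL-PAIR (S3008 part (2), design helper23; by helper27): two maximal abelian members `A`, `A'` of the
Chermak–Delgado lattice: `G₁ = A A'`, `Z(G₁) = A ∩ A'`, `C(A ∩ A') = G₁ C(G₁)`.
(Uses the local copy `mcl_ord_abcd_sup` of MCL-SUP from `MCLORD`.) -/

set_option autoImplicit false
set_option linter.unusedSectionVars false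
set_option linter.unusedVariables false

namespace Cfsg.Agent.Helper23.MCL

open scoped Pointwise
open Cfsg.Agent.Helper15

variable {G : Type*} [Group G]

/-- `Z(A A') ≤ A` for maximal abelian members `A`, `A'` -/
theorem mcl_pair_center_le [Finite G] {A A' : Subgroup G} (hA : IsS A)
    (hG1 : Cfsg.IsCentralizerLarge (A ⊔ A')) :
    (A ⊔ A') ⊓ Subgroup.centralizer ((A ⊔ A' : Subgroup G) : Set G) ≤ A := by
  have hK1 : Cfsg.IsCentralizerLarge (Subgroup.centralizer ((A ⊔ A' : Subgroup G) : Set G)) :=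
    IsCentralizerLarge.centralizer hG1
  have hZm : Cfsg.IsCentralizerLarge
      ((A ⊔ A') ⊓ Subgroup.centralizer ((A ⊔ A' : Subgroup G) : Set G)) :=
    IsCentralizerLarge.inf hG1 hK1
  have hZab : (A ⊔ A') ⊓ Subgroup.centralizer ((A ⊔ A' : Subgroup G) : Set G) ≤
      Subgroup.centralizer
        (((A ⊔ A') ⊓ Subgroup.centralizer ((A ⊔ A' : Subgroup G) : Set G) : Subgroup G) : Set G) :=
    inf_le_right.trans (Subgroup.centralizer_le (SetLike.coe_subset_coe.2 inf_le_left))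
  have hZ : AbCD ((A ⊔ A') ⊓ Subgroup.centralizer ((A ⊔ A' : Subgroup G) : Set G)) := ⟨hZm, hZab⟩
  have hZA : (A ⊔ A') ⊓ Subgroup.centralizer ((A ⊔ A' : Subgroup G) : Set G) ≤
      Subgroup.centralizer (A : Set G) :=
    inf_le_right.trans (Subgroup.centralizer_le (SetLike.coe_subset_coe.2 le_sup_left))
  have h1 : A ≤ Subgroup.centralizer
      (((A ⊔ A') ⊓ Subgroup.centralizer ((A ⊔ A' : Subgroup G) : Set G) : Subgroup G) : Set G) :=
    Subgroup.le_centralizer_iff.mp hZA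
  have h2 : AbCD (A ⊔ ((A ⊔ A') ⊓ Subgroup.centralizer ((A ⊔ A' : Subgroup G) : Set G))) :=
    mcl_ord_abcd_sup hA.1 hZ h1
  have h3 : A ⊔ ((A ⊔ A') ⊓ Subgroup.centralizer ((A ⊔ A' : Subgroup G) : Set G)) = A :=
    hA.2 _ h2 le_sup_left
  exact (le_sup_right : (A ⊔ A') ⊓ Subgroup.centralizer ((A ⊔ A' : Subgroup G) : Set G) ≤
    A ⊔ ((A ⊔ A') ⊓ Subgroup.centralizer ((A ⊔ A' : Subgroup G) : Set G))).trans (le_of_eq h3)

/-- PIECE MCL-PAIR [L2, uses SUP] -/
theorem pair_facts [Finite G] {A A' : Subgroup G} (hA : IsS A) (hA' : IsS A') :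
    Cfsg.IsCentralizerLarge (A ⊔ A') ∧
    ((A ⊔ A' : Subgroup G) : Set G) = (A : Set G) * (A' : Set G) ∧
    AbCD (A ⊓ A') ∧
    (A ⊔ A') ⊓ Subgroup.centralizer ((A ⊔ A' : Subgroup G) : Set G) = A ⊓ A' ∧
    Subgroup.centralizer ((A ⊓ A' : Subgroup G) : Set G) =
      (A ⊔ A') ⊔ Subgroup.centralizer ((A ⊔ A' : Subgroup G) : Set G) ∧
    ((Subgroup.centralizer ((A ⊓ A' : Subgroup G) : Set G) : Subgroup G) : Set G) =
      ((A ⊔ A' : Subgroup G) : Set G) *
        ((Subgroup.centralizer ((A ⊔ A' : Subgroup G) : Set G) : Subgroup G) : Set G) := by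
  have hG1 : Cfsg.IsCentralizerLarge (A ⊔ A') := IsCentralizerLarge.sup hA.1.1 hA'.1.1
  have hK1 : Cfsg.IsCentralizerLarge (Subgroup.centralizer ((A ⊔ A' : Subgroup G) : Set G)) :=
    IsCentralizerLarge.centralizer hG1
  have hcoe : ((A ⊔ A' : Subgroup G) : Set G) = (A : Set G) * (A' : Set G) :=
    IsCentralizerLarge.coe_sup hA.1.1 hA'.1.1
  have hE : AbCD (A ⊓ A') := mcl_ord_abcd_inf hA.1 hA'.1.1
  have hZA : (A ⊔ A') ⊓ Subgroup.centralizer ((A ⊔ A' : Subgroup G) : Set G) ≤ A :=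
    mcl_pair_center_le hA hG1
  have hG1' : Cfsg.IsCentralizerLarge (A' ⊔ A) := by rw [sup_comm]; exact hG1
  have hZA' : (A ⊔ A') ⊓ Subgroup.centralizer ((A ⊔ A' : Subgroup G) : Set G) ≤ A' := by
    have := mcl_pair_center_le hA' hG1'
    rwa [sup_comm A' A] at this
  have hEG : A ⊓ A' ≤ A ⊔ A' := inf_le_left.trans le_sup_left
  have hEK : A ⊓ A' ≤ Subgroup.centralizer ((A ⊔ A' : Subgroup G) : Set G) := by
    rw [centralizer_sup]
    exact le_inf (inf_le_left.trans hA.1.2) (inf_le_right.trans hA'.1.2)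
  have h4 : (A ⊔ A') ⊓ Subgroup.centralizer ((A ⊔ A' : Subgroup G) : Set G) = A ⊓ A' :=
    le_antisymm (le_inf hZA hZA') (le_inf hEG hEK)
  have hM : Cfsg.IsCentralizerLarge
      ((A ⊔ A') ⊔ Subgroup.centralizer ((A ⊔ A' : Subgroup G) : Set G)) :=
    IsCentralizerLarge.sup hG1 hK1
  have hc : Subgroup.centralizer
      (((A ⊔ A') ⊔ Subgroup.centralizer ((A ⊔ A' : Subgroup G) : Set G) : Subgroup G) : Set G) =
      A ⊓ A' := by
    rw [centralizer_sup, IsCentralizerLarge.centralizer_centralizer hG1, inf_comm, h4]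
  have h5 : Subgroup.centralizer ((A ⊓ A' : Subgroup G) : Set G) =
      (A ⊔ A') ⊔ Subgroup.centralizer ((A ⊔ A' : Subgroup G) : Set G) := by
    have h6 := IsCentralizerLarge.centralizer_centralizer hM
    rw [hc] at h6
    exact h6
  refine ⟨hG1, hcoe, hE, h4, h5, ?_⟩
  rw [h5]
  exact IsCentralizerLarge.coe_sup hG1 hK1

end Cfsg.Agent.Helper23.MCL
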