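import Mathlib
import Cfsg.Prelude.Def_BaumannBlocks
import Cfsg.Prelude.Def_PLocal
import Cfsg.Agent.Lib.Helper15.MinimalCL
import Cfsg.Agent.Lib.Helper23.MCLDefs

/-!
PIECE MCL-REPL of S3008 part (2) (owner helper23), core: the statements of `isS_cj`, `pair_facts`,
`card_le_of_isS`, `replacement` (for the pair `A`, `cj b A`) as hypotheses.
-/

set_option autoImplicit false
set_option linter.unusedSectionVars false
set_option linter.unusedVariables false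

namespace Cfsg.Agent.Helper23.MCL

open scoped Pointwise
open Cfsg.Agent.Helper15

variable {G : Type*} [Group G]

theorem mcl_repl_comm_of_mem {B : Subgroup G} (hB : B ∈ Cfsg.maxAbelianSubgroups G) {x y : G}
    (hx : x ∈ B) (hy : y ∈ B) : x * y = y * x := by
  have h := hB.1.is_comm.comm (⟨x, hx⟩ : ↥B) ⟨y, hy⟩
  exact congrArg Subtype.val h

theorem mcl_repl_core [Finite G] {A B : Subgroup G} (hA : IsS A)
    (hB : B ∈ Cfsg.maxAbelianSubgroups G) {b : G} (hb : b ∈ B)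
    (hcj : IsS (cj b A))
    (hpair : ((A ⊔ cj b A : Subgroup G) : Set G) = (A : Set G) * (cj b A : Set G) ∧
      (A ⊔ cj b A) ⊓ Subgroup.centralizer ((A ⊔ cj b A : Subgroup G) : Set G) = A ⊓ cj b A)
    (hord : ∀ {X H : Subgroup G}, IsS X → AbCD H → Nat.card H ≤ Nat.card X)
    (hrepl : A ⊓ B ≤ cj b A → cj b A ⊓ B ≤ A →
      Subgroup.centralizer (A : Set G) ⊓ B ≤ Subgroup.centralizer (cj b A : Set G) →
      IsS ((A ⊓ cj b A) ⊔ ((A ⊔ cj b A) ⊓ B)) ∧
      (((A ⊓ cj b A) ⊔ ((A ⊔ cj b A) ⊓ B) : Subgroup G) : Set G) =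
        ((A ⊓ cj b A : Subgroup G) : Set G) * (((A ⊔ cj b A) ⊓ B : Subgroup G) : Set G) ∧
      ((A ⊓ cj b A) ⊔ ((A ⊔ cj b A) ⊓ B)) ⊓ A = A ⊓ cj b A ∧
      ((A ⊓ cj b A) ⊔ ((A ⊔ cj b A) ⊓ B)) ⊓ cj b A = A ⊓ cj b A) :
    ∃ Astar : Subgroup G, IsS Astar ∧ Repl A (cj b A) Astar (A ⊓ cj b A) b := by
  have hcomm : ∀ {x y : G}, x ∈ B → y ∈ B → x * y = y * x :=
    fun hx hy => mcl_repl_comm_of_mem hB hx hy
  have hmem : ∀ y : G, y ∈ cj b A ↔ ∃ a ∈ A, b * a * b⁻¹ = y := by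
    intro y
    simp only [cj, Subgroup.mem_map, MulEquiv.coe_toMonoidHom, MulAut.conj_apply]
  -- the three hypotheses of `replacement`
  have hD : A ⊓ B ≤ cj b A := by
    rintro x ⟨hxA, hxB⟩
    rw [hmem]
    refine ⟨x, hxA, ?_⟩
    rw [hcomm hb hxB, mul_assoc, mul_inv_cancel, mul_one]
  have hD' : cj b A ⊓ B ≤ A := by
    rintro x ⟨hxA', hxB⟩
    obtain ⟨a, ha, rfl⟩ := (hmem x).1 hxA'
    have h1 : a = b⁻¹ * (b * a * b⁻¹) * b := by group
    have h2 : b⁻¹ * (b * a * b⁻¹) * b = b * a * b⁻¹ := by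
      rw [mul_assoc, hcomm hxB hb, ← mul_assoc, inv_mul_cancel, one_mul]
    rw [← h2, ← h1]
    exact ha
  have hB0 : Subgroup.centralizer (A : Set G) ⊓ B ≤ Subgroup.centralizer (cj b A : Set G) := by
    rintro x ⟨hxC, hxB⟩
    rw [Subgroup.mem_centralizer_iff]
    intro y hy
    obtain ⟨a, ha, rfl⟩ := (hmem y).1 hy
    have h1 : a * x = x * a := Subgroup.mem_centralizer_iff.1 hxC a ha
    have h2 : b * x = x * b := hcomm hb hxB
    have h3 : b⁻¹ * x = x * b⁻¹ := by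
      have : x = b * x * b⁻¹ := by rw [h2, mul_assoc, mul_inv_cancel, mul_one]
      conv_lhs => rw [this]
      group
    calc b * a * b⁻¹ * x = b * a * (b⁻¹ * x) := by group
      _ = b * a * (x * b⁻¹) := by rw [h3]
      _ = b * (a * x) * b⁻¹ := by group
      _ = b * (x * a) * b⁻¹ := by rw [h1]
      _ = (b * x) * a * b⁻¹ := by group
      _ = (x * b) * a * b⁻¹ := by rw [h2]
      _ = x * (b * a * b⁻¹) := by group
  obtain ⟨hS, hcoe, hinfA, hinfA'⟩ := hrepl hD hD' hB0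
  refine ⟨(A ⊓ cj b A) ⊔ ((A ⊔ cj b A) ⊓ B), hS, ?_⟩
  refine
    { hA' := rfl
      abA := hA.1.2
      hE := rfl
      center := hpair.2
      E_le := le_sup_left
      star_le := sup_le (inf_le_left.trans le_sup_left) inf_le_left
      infA := hinfA
      infA' := hinfA'
      card_eq := le_antisymm (hord hA hS.1) (hord hS hA.1)
      coe_sup := hpair.1
      fix := ?_ }
  intro x hx
  have hx' : x ∈ (((A ⊓ cj b A) ⊔ ((A ⊔ cj b A) ⊓ B) : Subgroup G) : Set G) := hx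
  rw [hcoe] at hx'
  obtain ⟨e, he, β, hβ, rfl⟩ := Set.mem_mul.1 hx'
  exact ⟨e, he, β, hβ.1, hcomm hb hβ.2, rfl⟩

end Cfsg.Agent.Helper23.MCL
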