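import Mathlib
import Cfsg.Prelude.Def_BaumannBlocks
import Cfsg.Prelude.Def_PLocal
import Cfsg.Agent.Lib.Helper15.MinimalCL
import Cfsg.Agent.Lib.Helper23.MCLDefs

/-!
# S3008 part (2), piece MCL-MEM (helper19), CORE (statements of MCL-PAIR / MCL-ORD as hypotheses): a large abelian subgroup of `A A'` is a maximal abelian
member of the Chermak–Delgado lattice.
-/

set_option autoImplicit false
set_option linter.unusedSectionVars false
set_option linter.unusedVariables false

namespace Cfsg.Agent.Helper23.MCL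

open scoped Pointwise
open Cfsg.Agent.Helper15

variable {G : Type*} [Group G]

theorem mcl_mem_core [Finite G] {A A' X : Subgroup G}
    (hpair : Cfsg.IsCentralizerLarge (A ⊔ A') ∧
      ((A ⊔ A' : Subgroup G) : Set G) = (A : Set G) * (A' : Set G) ∧
      (A ⊔ A') ⊓ Subgroup.centralizer ((A ⊔ A' : Subgroup G) : Set G) = A ⊓ A')
    (card_le_of_isS : ∀ {A H : Subgroup G}, IsS A → AbCD H → Nat.card H ≤ Nat.card A)
    (isS_of_card_le : ∀ {A H : Subgroup G}, IsS A → AbCD H → Nat.card A ≤ Nat.card H → IsS H)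
    (hA : IsS A) (hA' : IsS A')
    (hX : X ≤ A ⊔ A') (hXab : X ≤ Subgroup.centralizer (X : Set G))
    (hcard : Nat.card A ≤ Nat.card X) : IsS X := by
  obtain ⟨hG1, hcoe, hcenter⟩ := hpair
  -- `|A'| = |A|`
  have haa' : Nat.card A' = Nat.card A :=
    le_antisymm (card_le_of_isS hA hA'.1) (card_le_of_isS hA' hA.1)
  -- `|G₁| |E| = |A|²`
  have h2 : Nat.card A * Nat.card A =
      Nat.card ↥(A ⊔ A' : Subgroup G) * Nat.card ↥(A ⊓ A' : Subgroup G) := by
    have := card_mul_card_eq_of_coe_sup_eq_mul hcoe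
    rw [haa'] at this
    exact this
  -- `m* = |G₁| |K₁|`
  have h1 : Nat.card ↥(A ⊔ A' : Subgroup G) *
      Nat.card ↥(Subgroup.centralizer ((A ⊔ A' : Subgroup G) : Set G)) =
      Cfsg.maxCentralizerProduct G := hG1
  -- `K₁ ≤ C(X)`
  have hK1 : Subgroup.centralizer ((A ⊔ A' : Subgroup G) : Set G) ≤
      Subgroup.centralizer (X : Set G) := Subgroup.centralizer_le hX
  have hsup : X ⊔ Subgroup.centralizer ((A ⊔ A' : Subgroup G) : Set G) ≤
      Subgroup.centralizer (X : Set G) := sup_le hXab hK1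
  have hinf : X ⊓ Subgroup.centralizer ((A ⊔ A' : Subgroup G) : Set G) ≤ A ⊓ A' := by
    rw [← hcenter]
    exact inf_le_inf_right _ hX
  have h3 := card_mul_card_le_sup_inf X (Subgroup.centralizer ((A ⊔ A' : Subgroup G) : Set G))
  have h4 : Nat.card ↥(X ⊔ Subgroup.centralizer ((A ⊔ A' : Subgroup G) : Set G) : Subgroup G) ≤
      Nat.card ↥(Subgroup.centralizer (X : Set G)) := Subgroup.card_le_of_le hsup
  have h5 : Nat.card ↥(X ⊓ Subgroup.centralizer ((A ⊔ A' : Subgroup G) : Set G) : Subgroup G) ≤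
      Nat.card ↥(A ⊓ A' : Subgroup G) := Subgroup.card_le_of_le hinf
  have h6 : cdMeasure X ≤ Cfsg.maxCentralizerProduct G := cdMeasure_le_max X
  unfold cdMeasure at h6
  have hepos : 0 < Nat.card ↥(A ⊓ A' : Subgroup G) := Nat.card_pos
  -- abbreviations
  set x := Nat.card X
  set cx := Nat.card ↥(Subgroup.centralizer (X : Set G))
  set k := Nat.card ↥(Subgroup.centralizer ((A ⊔ A' : Subgroup G) : Set G))
  set e := Nat.card ↥(A ⊓ A' : Subgroup G)
  set a := Nat.card A
  set g1 := Nat.card ↥(A ⊔ A' : Subgroup G)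
  set M := Cfsg.maxCentralizerProduct G
  have h7 : x * k ≤ cx * e := le_trans h3 (Nat.mul_le_mul h4 h5)
  have h8 : M * e ≤ (x * cx) * e := by
    calc M * e = g1 * k * e := by rw [h1]
      _ = (g1 * e) * k := by ring
      _ = (a * a) * k := by rw [h2]
      _ ≤ (x * x) * k := Nat.mul_le_mul_right _ (Nat.mul_le_mul hcard hcard)
      _ = x * (x * k) := by ring
      _ ≤ x * (cx * e) := Nat.mul_le_mul_left _ h7
      _ = (x * cx) * e := by ring
  have h9 : M ≤ x * cx := Nat.le_of_mul_le_mul_right h8 hepos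
  have hXcl : Cfsg.IsCentralizerLarge X := le_antisymm h6 h9
  exact isS_of_card_le hA ⟨hXcl, hXab⟩ hcard

end Cfsg.Agent.Helper23.MCL
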