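import Mathlib
import Cfsg.Prelude.Def_BaumannBlocks
import Cfsg.Prelude.Def_PLocal
import Cfsg.Agent.Lib.Helper15.MinimalCL
import Cfsg.Agent.Lib.Helper23.MCLDefs
import Cfsg.Agent.Lib.MCL.MCLMEMCore
import Cfsg.Agent.Lib.MCL.MCLPAIR
import Cfsg.Agent.Lib.MCL.MCLORD

/-!
# S3008 part (2), piece MCL-MEM (helper19): exact-signature wrapper of `mcl_mem_core`.
-/

set_option autoImplicit false
set_option linter.unusedSectionVars false
set_option linter.unusedVariables false

namespace Cfsg.Agent.Helper23.MCL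

open scoped Pointwise
open Cfsg.Agent.Helper15

variable {G : Type*} [Group G]

theorem isS_of_le_sup [Finite G] {A A' X : Subgroup G} (hA : IsS A) (hA' : IsS A')
    (hX : X ≤ A ⊔ A') (hXab : X ≤ Subgroup.centralizer (X : Set G))
    (hcard : Nat.card A ≤ Nat.card X) : IsS X := by
  obtain ⟨h1, h2, -, h4, -, -⟩ := pair_facts hA hA'
  exact mcl_mem_core ⟨h1, h2, h4⟩ (fun hA hH => card_le_of_isS hA hH)
    (fun hA hH h => isS_of_card_le hA hH h) hA hA' hX hXab hcard

end Cfsg.Agent.Helper23.MCL
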