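import Mathlib
import Cfsg.Prelude.Def_BaumannBlocks
import Cfsg.Prelude.Def_PLocal
import Cfsg.Agent.Lib.Helper15.MinimalCL
import Cfsg.Agent.Lib.Helper23.MCLDefs

/-!
# S3008 part (2), piece MCL-BHAT (helper4): core version, with the dependencies
(MCL-KAB `card_abelian_le_of_le_centralizer`, MCL-FONE `abcd_maxAbelian`) as hypotheses.
-/

set_option autoImplicit false
set_option linter.unusedSectionVars false
set_option linter.unusedVariables false

namespace Cfsg.Agent.Helper23.MCL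

open scoped Pointwise
open Cfsg.Agent.Helper15

variable {G : Type*} [Group G]

/-- the meet of two maximal abelian members is an abelian member -/
theorem mcl_bhat_abcd_inf [Finite G] {A A' : Subgroup G} (hA : IsS A) (hA' : IsS A') :
    AbCD (A ⊓ A') := by
  refine ⟨IsCentralizerLarge.inf hA.1.1 hA'.1.1, ?_⟩
  exact inf_le_left.trans (hA.1.2.trans
    (Subgroup.centralizer_le (SetLike.coe_subset_coe.2 inf_le_left)))

/-- `E = A ⊓ A' ≤ K₁ = C(A ⊔ A')` -/
theorem mcl_bhat_inf_le_centralizer_sup {A A' : Subgroup G}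
    (hA : A ≤ Subgroup.centralizer (A : Set G)) (hA' : A' ≤ Subgroup.centralizer (A' : Set G)) :
    A ⊓ A' ≤ Subgroup.centralizer ((A ⊔ A' : Subgroup G) : Set G) := by
  rw [centralizer_sup]
  exact le_inf (inf_le_left.trans hA) (inf_le_right.trans hA')

/-- core of MCL-BHAT -/
theorem mcl_bhat_core [Finite G] {A A' B : Subgroup G} (hA : IsS A) (hA' : IsS A')
    (hB : B ∈ Cfsg.maxAbelianSubgroups G)
    (hB0 : Subgroup.centralizer (A : Set G) ⊓ B ≤ Subgroup.centralizer (A' : Set G))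
    (hkab : ∀ T : Subgroup G, T ≤ Subgroup.centralizer ((A ⊔ A' : Subgroup G) : Set G) →
      T ≤ Subgroup.centralizer (T : Set G) →
      Nat.card T * Nat.card A ≤ Nat.card B * Nat.card ↥(A ⊓ A' : Subgroup G))
    (hfone : ∀ H : Subgroup G, AbCD H →
      ((Subgroup.centralizer (H : Set G) ⊓ B) ⊔ H) ∈ Cfsg.maxAbelianSubgroups G ∧
      (((Subgroup.centralizer (H : Set G) ⊓ B) ⊔ H : Subgroup G) : Set G) =
        ((Subgroup.centralizer (H : Set G) ⊓ B : Subgroup G) : Set G) * (H : Set G) ∧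
      Nat.card ↥(Subgroup.centralizer (H : Set G) ⊓ B : Subgroup G) * Nat.card H =
        Nat.card B * Nat.card ↥(H ⊓ B : Subgroup G)) :
    Nat.card ↥(((Subgroup.centralizer ((A ⊓ A' : Subgroup G) : Set G) ⊓ B) ⊔ (A ⊓ A')) ⊓
        Subgroup.centralizer ((A ⊔ A' : Subgroup G) : Set G) : Subgroup G) * Nat.card A =
      Nat.card ↥(A ⊓ A' : Subgroup G) * Nat.card B ∧
    ∀ k ∈ Subgroup.centralizer ((A ⊔ A' : Subgroup G) : Set G),
      (∀ t ∈ ((Subgroup.centralizer ((A ⊓ A' : Subgroup G) : Set G) ⊓ B) ⊔ (A ⊓ A')) ⊓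
          Subgroup.centralizer ((A ⊔ A' : Subgroup G) : Set G), k * t = t * k) →
      k ∈ (Subgroup.centralizer ((A ⊓ A' : Subgroup G) : Set G) ⊓ B) ⊔ (A ⊓ A') := by
  set E : Subgroup G := A ⊓ A' with hEdef
  set K₁ : Subgroup G := Subgroup.centralizer ((A ⊔ A' : Subgroup G) : Set G) with hKdef
  set Bh : Subgroup G := (Subgroup.centralizer (E : Set G) ⊓ B) ⊔ E with hBhdef
  set T : Subgroup G := Bh ⊓ K₁ with hTdef
  have hE : AbCD E := mcl_bhat_abcd_inf hA hA'
  have hEK : E ≤ K₁ := mcl_bhat_inf_le_centralizer_sup hA.1.2 hA'.1.2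
  obtain ⟨hBhmax, -, -⟩ := hfone E hE
  obtain ⟨-, -, hcardA⟩ := hfone A hA.1
  have hBhab : Bh ≤ Subgroup.centralizer (Bh : Set G) := MaxAbelian.le_centralizer hBhmax
  -- `T` is abelian and inside `K₁`
  have hTK : T ≤ K₁ := inf_le_right
  have hTab : T ≤ Subgroup.centralizer (T : Set G) :=
    inf_le_left.trans (hBhab.trans (Subgroup.centralizer_le (SetLike.coe_subset_coe.2 inf_le_left)))
  have hle : Nat.card T * Nat.card A ≤ Nat.card B * Nat.card E := hkab T hTK hTab
  -- lower bound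
  set CB : Subgroup G := Subgroup.centralizer (A : Set G) ⊓ B with hCBdef
  have hCBBh : CB ≤ Bh := by
    refine le_trans ?_ le_sup_left
    exact le_inf (inf_le_left.trans
      (Subgroup.centralizer_le (SetLike.coe_subset_coe.2 inf_le_left))) inf_le_right
  have hCBK : CB ≤ K₁ := by
    rw [hKdef, centralizer_sup]
    exact le_inf inf_le_left hB0
  have hsupT : E ⊔ CB ≤ T := sup_le (le_inf le_sup_right hEK) (le_inf hCBBh hCBK)
  have hinf : E ⊓ CB ≤ A ⊓ B := le_inf (inf_le_left.trans inf_le_left) (inf_le_right.trans inf_le_right)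
  have h1 : Nat.card E * Nat.card CB ≤ Nat.card ↥(E ⊔ CB : Subgroup G) * Nat.card ↥(E ⊓ CB : Subgroup G) :=
    card_mul_card_le_sup_inf E CB
  have h2 : Nat.card ↥(E ⊔ CB : Subgroup G) ≤ Nat.card T := Subgroup.card_le_of_le hsupT
  have h3 : Nat.card ↥(E ⊓ CB : Subgroup G) ≤ Nat.card ↥(A ⊓ B : Subgroup G) :=
    Subgroup.card_le_of_le hinf
  have hpos : 0 < Nat.card ↥(E ⊓ CB : Subgroup G) := Nat.card_pos
  have hge : Nat.card E * Nat.card B ≤ Nat.card T * Nat.card A := by
    apply Nat.le_of_mul_le_mul_right _ hpos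
    calc Nat.card E * Nat.card B * Nat.card ↥(E ⊓ CB : Subgroup G)
        ≤ Nat.card E * Nat.card B * Nat.card ↥(A ⊓ B : Subgroup G) := Nat.mul_le_mul_left _ h3
      _ = Nat.card E * (Nat.card CB * Nat.card A) := by rw [hcardA]; ring
      _ = (Nat.card E * Nat.card CB) * Nat.card A := by ring
      _ ≤ (Nat.card ↥(E ⊔ CB : Subgroup G) * Nat.card ↥(E ⊓ CB : Subgroup G)) * Nat.card A :=
          Nat.mul_le_mul_right _ h1
      _ ≤ (Nat.card T * Nat.card ↥(E ⊓ CB : Subgroup G)) * Nat.card A :=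
          Nat.mul_le_mul_right _ (Nat.mul_le_mul_right _ h2)
      _ = Nat.card T * Nat.card A * Nat.card ↥(E ⊓ CB : Subgroup G) := by ring
  have hcard : Nat.card T * Nat.card A = Nat.card E * Nat.card B :=
    le_antisymm (by rw [Nat.mul_comm (Nat.card E)]; exact hle) hge
  refine ⟨hcard, ?_⟩
  intro k hk hkT
  -- `T' = T ⊔ ⟨k⟩` is abelian inside `K₁`
  have hkK : Subgroup.zpowers k ≤ K₁ := (Subgroup.zpowers_le).2 hk
  have hkcT : k ∈ Subgroup.centralizer (T : Set G) := by
    rw [Subgroup.mem_centralizer_iff]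
    intro t ht
    exact (hkT t ht).symm
  have hzT : Subgroup.zpowers k ≤ Subgroup.centralizer (T : Set G) := (Subgroup.zpowers_le).2 hkcT
  have hT'ab : IsMulCommutative ↥(T ⊔ Subgroup.zpowers k : Subgroup G) := by
    apply isMulCommutative_sup hTab
    · exact Subgroup.le_centralizer_iff_isMulCommutative.2 inferInstance
    · exact Subgroup.le_centralizer_iff.1 hzT
  have hT'K : T ⊔ Subgroup.zpowers k ≤ K₁ := sup_le hTK hkK
  have hle' := hkab (T ⊔ Subgroup.zpowers k) hT'K (Subgroup.le_centralizer_iff_isMulCommutative.2 hT'ab)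
  have hApos : 0 < Nat.card A := Nat.card_pos
  have hcle : Nat.card ↥(T ⊔ Subgroup.zpowers k : Subgroup G) ≤ Nat.card T := by
    apply Nat.le_of_mul_le_mul_right _ hApos
    rw [hcard, Nat.mul_comm (Nat.card E)]
    exact hle'
  have heq : T = T ⊔ Subgroup.zpowers k := Subgroup.eq_of_le_of_card_ge le_sup_left hcle
  have hkT' : k ∈ T := by
    rw [heq]
    exact (le_sup_right : Subgroup.zpowers k ≤ _) (Subgroup.mem_zpowers k)
  exact (inf_le_left : T ≤ Bh) hkT'

end Cfsg.Agent.Helper23.MCL
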