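import Mathlib
import Cfsg.Prelude.Def_BaumannBlocks
import Cfsg.Prelude.Def_PLocal
import Cfsg.Agent.Lib.Helper15.MinimalCL
import Cfsg.Agent.Lib.Helper23.MCLDefs

/-!
# S3008 piece MCL-KAB, core: the statement with the needed conjunct of `pair_facts`
(`(A ⊔ A') ⊓ C(A ⊔ A') = A ⊓ A'`) as a hypothesis.
-/

set_option autoImplicit false
set_option linter.unusedSectionVars false
set_option linter.unusedVariables false

namespace Cfsg.Agent.Helper23.MCL

open scoped Pointwise
open Cfsg.Agent.Helper15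

variable {G : Type*} [Group G]

theorem mcl_kab_core [Finite G] {A A' B T : Subgroup G}
    (hAab : A ≤ Subgroup.centralizer (A : Set G))
    (hpair : (A ⊔ A') ⊓ Subgroup.centralizer ((A ⊔ A' : Subgroup G) : Set G) = A ⊓ A')
    (hB : B ∈ Cfsg.maxAbelianSubgroups G)
    (hT : T ≤ Subgroup.centralizer ((A ⊔ A' : Subgroup G) : Set G))
    (hTab : T ≤ Subgroup.centralizer (T : Set G)) :
    Nat.card T * Nat.card A ≤ Nat.card B * Nat.card ↥(A ⊓ A' : Subgroup G) := by
  have hTA : T ≤ Subgroup.centralizer (A : Set G) :=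
    hT.trans (Subgroup.centralizer_le (by exact_mod_cast (le_sup_left : A ≤ A ⊔ A')))
  have hab : IsMulCommutative ↥(T ⊔ A : Subgroup G) := isMulCommutative_sup hTab hAab hTA
  have h1 : Nat.card ↥(T ⊔ A : Subgroup G) ≤ Nat.card B := hB.2 _ hab
  have h2 := card_mul_card_le_sup_inf T A
  have hle : T ⊓ A ≤ A ⊓ A' := by
    rw [← hpair]
    exact le_inf (inf_le_right.trans le_sup_left) (inf_le_left.trans hT)
  have h3 : Nat.card ↥(T ⊓ A : Subgroup G) ≤ Nat.card ↥(A ⊓ A' : Subgroup G) :=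
    Subgroup.card_le_of_le hle
  calc Nat.card T * Nat.card A ≤ Nat.card ↥(T ⊔ A : Subgroup G) * Nat.card ↥(T ⊓ A : Subgroup G) := h2
    _ ≤ Nat.card B * Nat.card ↥(A ⊓ A' : Subgroup G) := Nat.mul_le_mul h1 h3

end Cfsg.Agent.Helper23.MCL
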