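import Mathlib
import Cfsg.Prelude.Def_BaumannBlocks
import Cfsg.Prelude.Def_PLocal
import Cfsg.Agent.Lib.Helper15.MinimalCL
import Cfsg.Agent.Lib.Helper23.MCLDefs

/-!
# S3008 part (2), piece MCL-SUP (helper2 for helper23): joins and meets of abelian members of the
Chermak–Delgado lattice.
-/

set_option autoImplicit false
set_option linter.unusedSectionVars false
set_option linter.unusedVariables false

namespace Cfsg.Agent.Helper23.MCL

open scoped Pointwise
open Cfsg.Agent.Helper15

variable {G : Type*} [Group G]

/-- PIECE MCL-SUP [L1] (1/2): two commuting abelian members generate an abelian member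
(`IsCentralizerLarge.sup`, `isMulCommutative_sup`-style). -/
theorem abcd_sup [Finite G] {H K : Subgroup G} (hH : AbCD H) (hK : AbCD K)
    (hHK : H ≤ Subgroup.centralizer (K : Set G)) : AbCD (H ⊔ K) := by
  refine ⟨IsCentralizerLarge.sup hH.1 hK.1, ?_⟩
  rw [centralizer_sup]
  exact sup_le (le_inf hH.2 hHK) (le_inf (Subgroup.le_centralizer_iff.1 hHK) hK.2)

/-- PIECE MCL-SUP (2/2): the meet of an abelian member with any member is an abelian member. -/
theorem abcd_inf [Finite G] {H K : Subgroup G} (hH : AbCD H) (hK : Cfsg.IsCentralizerLarge K) :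
    AbCD (H ⊓ K) := by
  refine ⟨IsCentralizerLarge.inf hH.1 hK, ?_⟩
  exact le_trans inf_le_left (le_trans hH.2
    (Subgroup.centralizer_le (SetLike.coe_subset_coe.2 inf_le_left)))

end Cfsg.Agent.Helper23.MCL
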