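import Mathlib
import Cfsg.Prelude.Def_BaumannBlocks
import Cfsg.Prelude.Def_PLocal
import Cfsg.Agent.Lib.Helper15.MinimalCL
import Cfsg.Agent.Lib.Helper23.MCLDefs
import Cfsg.Agent.Lib.MCL.MCLSUP
import Cfsg.Agent.Lib.MCL.MCLFONE
import Cfsg.Agent.Lib.MCL.MCLKABCore
import Cfsg.Agent.Lib.MCL.MCLBHATCore

/-!
# S3008 part (2), piece MCL-BHAT (helper4): `bhat_facts`, exact skeleton statement.
Uses `mcl_bhat_core` (MCLBHATCore), `mcl_kab_core` (MCLKABCore), `abcd_maxAbelian` (MCLFONE), `abcd_sup` (MCLSUP);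
the one conjunct of `pair_facts` needed by `mcl_kab_core` (`Z(A A') = A ⊓ A'`) is proved here directly.
-/

set_option autoImplicit false
set_option linter.unusedSectionVars false
set_option linter.unusedVariables false

namespace Cfsg.Agent.Helper23.MCL

open scoped Pointwise
open Cfsg.Agent.Helper15

variable {G : Type*} [Group G]

/-- `Z(A A') = A ⊓ A'` for two maximal abelian members (the fourth conjunct of `pair_facts`) -/
theorem mcl_bhat_center [Finite G] {A A' : Subgroup G} (hA : IsS A) (hA' : IsS A') :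
    (A ⊔ A') ⊓ Subgroup.centralizer ((A ⊔ A' : Subgroup G) : Set G) = A ⊓ A' := by
  have hG₁ : Cfsg.IsCentralizerLarge (A ⊔ A') := IsCentralizerLarge.sup hA.1.1 hA'.1.1
  have hZcl : Cfsg.IsCentralizerLarge
      ((A ⊔ A') ⊓ Subgroup.centralizer ((A ⊔ A' : Subgroup G) : Set G)) :=
    IsCentralizerLarge.inf hG₁ (IsCentralizerLarge.centralizer hG₁)
  have hZab : (A ⊔ A') ⊓ Subgroup.centralizer ((A ⊔ A' : Subgroup G) : Set G) ≤
      Subgroup.centralizer
        (((A ⊔ A') ⊓ Subgroup.centralizer ((A ⊔ A' : Subgroup G) : Set G) : Subgroup G) : Set G) :=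
    inf_le_right.trans (Subgroup.centralizer_le (SetLike.coe_subset_coe.2 inf_le_left))
  have hZ : AbCD ((A ⊔ A') ⊓ Subgroup.centralizer ((A ⊔ A' : Subgroup G) : Set G)) := ⟨hZcl, hZab⟩
  have key : ∀ X : Subgroup G, IsS X → X ≤ A ⊔ A' →
      (A ⊔ A') ⊓ Subgroup.centralizer ((A ⊔ A' : Subgroup G) : Set G) ≤ X := by
    intro X hX hXle
    have hZX : (A ⊔ A') ⊓ Subgroup.centralizer ((A ⊔ A' : Subgroup G) : Set G) ≤
        Subgroup.centralizer (X : Set G) :=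
      inf_le_right.trans (Subgroup.centralizer_le (SetLike.coe_subset_coe.2 hXle))
    have h1 : AbCD (X ⊔ ((A ⊔ A') ⊓ Subgroup.centralizer ((A ⊔ A' : Subgroup G) : Set G))) :=
      abcd_sup hX.1 hZ (Subgroup.le_centralizer_iff.1 hZX)
    have h2 := hX.2 _ h1 le_sup_left
    calc (A ⊔ A') ⊓ Subgroup.centralizer ((A ⊔ A' : Subgroup G) : Set G)
        ≤ X ⊔ ((A ⊔ A') ⊓ Subgroup.centralizer ((A ⊔ A' : Subgroup G) : Set G)) := le_sup_right
      _ = X := h2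
  apply le_antisymm (le_inf (key A hA le_sup_left) (key A' hA' le_sup_right))
  exact le_inf (inf_le_left.trans le_sup_left) (mcl_bhat_inf_le_centralizer_sup hA.1.2 hA'.1.2)

/-- PIECE MCL-BHAT [L3, uses PAIR, KAB, FONE]: `Bh = C_B(E) E`, `T = Bh ⊓ K₁`:
`|T| |A| = |E| |B|` (`≥`: `T ≥ E ⊔ C_B(A)`, `|C_B(A)| |A| = |B| |A ∩ B|`, `E ⊓ C_B(A) ≤ A ⊓ B`; `≤`: KAB), and
`T` is self-centralising in `K₁` (KAB for `T ⊔ ⟨k⟩`). -/
theorem bhat_facts [Finite G] {A A' B : Subgroup G} (hA : IsS A) (hA' : IsS A')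
    (hB : B ∈ Cfsg.maxAbelianSubgroups G)
    (hB0 : Subgroup.centralizer (A : Set G) ⊓ B ≤ Subgroup.centralizer (A' : Set G)) :
    Nat.card ↥(((Subgroup.centralizer ((A ⊓ A' : Subgroup G) : Set G) ⊓ B) ⊔ (A ⊓ A')) ⊓
        Subgroup.centralizer ((A ⊔ A' : Subgroup G) : Set G) : Subgroup G) * Nat.card A =
      Nat.card ↥(A ⊓ A' : Subgroup G) * Nat.card B ∧
    ∀ k ∈ Subgroup.centralizer ((A ⊔ A' : Subgroup G) : Set G),
      (∀ t ∈ ((Subgroup.centralizer ((A ⊓ A' : Subgroup G) : Set G) ⊓ B) ⊔ (A ⊓ A')) ⊓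
          Subgroup.centralizer ((A ⊔ A' : Subgroup G) : Set G), k * t = t * k) →
      k ∈ (Subgroup.centralizer ((A ⊓ A' : Subgroup G) : Set G) ⊓ B) ⊔ (A ⊓ A') :=
  mcl_bhat_core hA hA' hB hB0
    (fun T hT hTab => mcl_kab_core hA.1.2 (mcl_bhat_center hA hA') hB hT hTab)
    (fun H hH => abcd_maxAbelian hH hB)

end Cfsg.Agent.Helper23.MCL
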