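import Mathlib
import Cfsg.Prelude.Def_BaumannBlocks
import Cfsg.Prelude.Def_PLocal
import Cfsg.Agent.Lib.Helper15.MinimalCL
import Cfsg.Agent.Lib.Helper23.MCLDefs
import Cfsg.Agent.Lib.MCL.MCLPAIR
import Cfsg.Agent.Lib.MCL.MCLFONE
import Cfsg.Agent.Lib.MCL.MCLBHAT

/-!
# S3008 part (2), piece MCL-SPLIT (helper20): `card_bhat_inf_sup`, exact skeleton statement.

`Bh = C_B(E) E ≤ C(E) = G₁ K₁`; for `β = g k ∈ Bh` the factor `k` centralises `T = Bh ⊓ K₁`, so `k ∈ Bh`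
(`bhat_facts`) and `g ∈ Bh ⊓ G₁`: `Bh = (Bh ⊓ G₁) T` as sets.  Count: `|Bh ⊓ G₁| |T| = |Bh| |E|`, `|Bh| = |B|`,
`|T| |A| = |E| |B|`.
-/

set_option autoImplicit false
set_option linter.unusedSectionVars false
set_option linter.unusedVariables false

namespace Cfsg.Agent.Helper23.MCL

open scoped Pointwise
open Cfsg.Agent.Helper15

variable {G : Type*} [Group G]

/-- abstract form of the splitting + count -/
theorem mcl_split_core [Finite G] {Bh G₁ K₁ E T : Subgroup G}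
    (hBhab : ∀ x ∈ Bh, ∀ y ∈ Bh, x * y = y * x)
    (hsub : ∀ β ∈ Bh, ∃ g ∈ G₁, ∃ k ∈ K₁, β = g * k)
    (hK₁ : K₁ = Subgroup.centralizer (G₁ : Set G))
    (hcenter : G₁ ⊓ K₁ = E) (hEBh : E ≤ Bh) (hT : T = Bh ⊓ K₁)
    (hself : ∀ k ∈ K₁, (∀ t ∈ T, k * t = t * k) → k ∈ Bh) :
    Nat.card ↥(Bh ⊓ G₁ : Subgroup G) * Nat.card T = Nat.card Bh * Nat.card E := by
  -- `Bh = (Bh ⊓ G₁) * T` as sets
  have hset : ((Bh ⊓ G₁ : Subgroup G) : Set G) * (T : Set G) = (Bh : Set G) := by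
    apply Set.Subset.antisymm
    · rintro _ ⟨x, hx, y, hy, rfl⟩
      have hx' : x ∈ Bh := (Subgroup.mem_inf.1 hx).1
      have hy' : y ∈ Bh := by
        have : y ∈ T := hy
        rw [hT] at this
        exact (Subgroup.mem_inf.1 this).1
      exact Bh.mul_mem hx' hy'
    · intro β hβ
      have hβ : β ∈ Bh := hβ
      obtain ⟨g, hg, k, hk, rfl⟩ := hsub β hβ
      have hkc : ∀ t ∈ T, k * t = t * k := by
        intro t ht
        have htBh : t ∈ Bh := by rw [hT] at ht; exact (Subgroup.mem_inf.1 ht).1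
        have htK : t ∈ K₁ := by rw [hT] at ht; exact (Subgroup.mem_inf.1 ht).2
        have h1 : (g * k) * t = t * (g * k) := hBhab _ hβ _ htBh
        have h2 : g * t = t * g := by
          rw [hK₁, Subgroup.mem_centralizer_iff] at htK
          exact htK g hg
        -- k t = g⁻¹ (g k t) = g⁻¹ t g k = g⁻¹ g t k = t k
        have h3 : g * (k * t) = g * (t * k) := by
          rw [← mul_assoc, h1, ← mul_assoc, ← h2, mul_assoc]
        exact mul_left_cancel h3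
      have hkBh : k ∈ Bh := hself k hk hkc
      have hgBh : g ∈ Bh := by
        have : g = (g * k) * k⁻¹ := by group
        rw [this]
        exact Bh.mul_mem hβ (Bh.inv_mem hkBh)
      refine ⟨g, Subgroup.mem_inf.2 ⟨hgBh, hg⟩, k, ?_, rfl⟩
      show k ∈ T
      rw [hT]
      exact Subgroup.mem_inf.2 ⟨hkBh, hk⟩
  -- intersection
  have hinf : (Bh ⊓ G₁) ⊓ T = E := by
    rw [hT]
    apply le_antisymm
    · intro x hx
      obtain ⟨hx1, hx2⟩ := Subgroup.mem_inf.1 hx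
      rw [← hcenter]
      exact Subgroup.mem_inf.2 ⟨(Subgroup.mem_inf.1 hx1).2, (Subgroup.mem_inf.1 hx2).2⟩
    · intro x hx
      have hx' : x ∈ G₁ ⊓ K₁ := by rw [hcenter]; exact hx
      obtain ⟨h1, h2⟩ := Subgroup.mem_inf.1 hx'
      exact Subgroup.mem_inf.2 ⟨Subgroup.mem_inf.2 ⟨hEBh hx, h1⟩, Subgroup.mem_inf.2 ⟨hEBh hx, h2⟩⟩
  have hcount := card_mul_set_mul_card_inf (Bh ⊓ G₁) T
  rw [hinf] at hcount
  rw [← hcount]
  congr 1
  rw [hset]
  rfl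

/-- PIECE MCL-SPLIT: `|Bh ⊓ G₁| = |A|`. -/
theorem card_bhat_inf_sup [Finite G] {A A' B : Subgroup G} (hA : IsS A) (hA' : IsS A')
    (hB : B ∈ Cfsg.maxAbelianSubgroups G)
    (hB0 : Subgroup.centralizer (A : Set G) ⊓ B ≤ Subgroup.centralizer (A' : Set G)) :
    Nat.card ↥(((Subgroup.centralizer ((A ⊓ A' : Subgroup G) : Set G) ⊓ B) ⊔ (A ⊓ A')) ⊓ (A ⊔ A') :
      Subgroup G) = Nat.card A := by
  obtain ⟨hG₁cl, hG₁coe, hE, hcenter, hCE, hCEcoe⟩ := pair_facts hA hA'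
  obtain ⟨hBhmax, hBhcoe, hBhcard⟩ := abcd_maxAbelian hE hB
  obtain ⟨hTcard, hself⟩ := bhat_facts hA hA' hB hB0
  set E : Subgroup G := A ⊓ A' with hEdef
  set G₁ : Subgroup G := A ⊔ A' with hG₁def
  set K₁ : Subgroup G := Subgroup.centralizer (G₁ : Set G) with hK₁def
  set Bh : Subgroup G := (Subgroup.centralizer (E : Set G) ⊓ B) ⊔ E with hBhdef
  -- `Bh` abelian
  have hBhcomm : IsMulCommutative Bh := hBhmax.1
  have hBhab : ∀ x ∈ Bh, ∀ y ∈ Bh, x * y = y * x := by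
    intro x hx y hy
    have := hBhcomm.is_comm.comm (⟨x, hx⟩ : Bh) ⟨y, hy⟩
    exact congrArg Subtype.val this
  -- `Bh ≤ C(E)`
  have hBhle : Bh ≤ Subgroup.centralizer (E : Set G) := by
    rw [hBhdef]
    exact sup_le inf_le_left hE.2
  have hsub : ∀ β ∈ Bh, ∃ g ∈ G₁, ∃ k ∈ K₁, β = g * k := by
    intro β hβ
    have h1 : β ∈ ((Subgroup.centralizer (E : Set G) : Subgroup G) : Set G) := hBhle hβ
    rw [hCEcoe] at h1
    obtain ⟨g, hg, k, hk, rfl⟩ := h1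
    exact ⟨g, hg, k, hk, rfl⟩
  have hEBh : E ≤ Bh := le_sup_right
  have hcore := mcl_split_core (Bh := Bh) (G₁ := G₁) (K₁ := K₁) (E := E) (T := Bh ⊓ K₁)
    hBhab hsub rfl hcenter hEBh rfl hself
  -- `|Bh| = |B|`
  have hBhB : Nat.card Bh = Nat.card B :=
    le_antisymm (hB.2 Bh hBhmax.1) (hBhmax.2 B hB.1)
  rw [hBhB] at hcore
  -- combine with `|T| |A| = |E| |B|`
  have hTpos : 0 < Nat.card ↥(Bh ⊓ K₁ : Subgroup G) := Nat.card_pos
  have hfin : Nat.card ↥(Bh ⊓ G₁ : Subgroup G) * Nat.card ↥(Bh ⊓ K₁ : Subgroup G) =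
      Nat.card A * Nat.card ↥(Bh ⊓ K₁ : Subgroup G) := by
    rw [hcore, mul_comm (Nat.card A), hTcard, mul_comm]
  exact Nat.eq_of_mul_eq_mul_right hTpos hfin

end Cfsg.Agent.Helper23.MCL
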