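import Mathlib
import Cfsg.Prelude.Def_BaumannBlocks
import Cfsg.Prelude.Def_PLocal
import Cfsg.Agent.Lib.Helper15.MinimalCL
import Cfsg.Agent.Lib.Helper23.MCLDefs

/-!
# S3008 part (2), PIECE MCL-TONE (helper14), core: the statement `replacement` with the facts used from
MCL-PAIR, MCL-FONE, MCL-SPLIT and MCL-MEM as hypotheses (for the given `A`, `A'`, `B`).
-/

set_option autoImplicit false
set_option linter.unusedSectionVars false
set_option linter.unusedVariables false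

namespace Cfsg.Agent.Helper23.MCL

open scoped Pointwise
open Cfsg.Agent.Helper15

variable {G : Type*} [Group G]

/-- core of MCL-TONE -/
theorem mcl_tone_core [Finite G] {A A' B : Subgroup G}
    (hD : A ⊓ B ≤ A') (hD' : A' ⊓ B ≤ A)
    (hCE : Subgroup.centralizer ((A ⊓ A' : Subgroup G) : Set G) =
      (A ⊔ A') ⊔ Subgroup.centralizer ((A ⊔ A' : Subgroup G) : Set G))
    (hBh : ((Subgroup.centralizer ((A ⊓ A' : Subgroup G) : Set G) ⊓ B) ⊔ (A ⊓ A')) ∈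
      Cfsg.maxAbelianSubgroups G)
    (hBhcoe : (((Subgroup.centralizer ((A ⊓ A' : Subgroup G) : Set G) ⊓ B) ⊔ (A ⊓ A') : Subgroup G) :
        Set G) =
      ((Subgroup.centralizer ((A ⊓ A' : Subgroup G) : Set G) ⊓ B : Subgroup G) : Set G) *
        ((A ⊓ A' : Subgroup G) : Set G))
    (hsplit : Nat.card ↥(((Subgroup.centralizer ((A ⊓ A' : Subgroup G) : Set G) ⊓ B) ⊔ (A ⊓ A')) ⊓
      (A ⊔ A') : Subgroup G) = Nat.card A)
    (hmemS : ∀ X : Subgroup G, X ≤ A ⊔ A' → X ≤ Subgroup.centralizer (X : Set G) →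
      Nat.card A ≤ Nat.card X → IsS X) :
    IsS ((A ⊓ A') ⊔ ((A ⊔ A') ⊓ B)) ∧
    (((A ⊓ A') ⊔ ((A ⊔ A') ⊓ B) : Subgroup G) : Set G) =
      ((A ⊓ A' : Subgroup G) : Set G) * (((A ⊔ A') ⊓ B : Subgroup G) : Set G) ∧
    ((A ⊓ A') ⊔ ((A ⊔ A') ⊓ B)) ⊓ A = A ⊓ A' ∧
    ((A ⊓ A') ⊔ ((A ⊔ A') ⊓ B)) ⊓ A' = A ⊓ A' := by
  -- `G₁ ≤ C(E)`
  have hG1CE : A ⊔ A' ≤ Subgroup.centralizer ((A ⊓ A' : Subgroup G) : Set G) := by
    rw [hCE]; exact le_sup_left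
  have hEG1 : A ⊓ A' ≤ A ⊔ A' := inf_le_left.trans le_sup_left
  -- elements of `Bh ⊓ G₁`
  have hdecomp : ∀ x, x ∈ ((Subgroup.centralizer ((A ⊓ A' : Subgroup G) : Set G) ⊓ B) ⊔ (A ⊓ A')) ⊓
      (A ⊔ A') → ∃ e ∈ A ⊓ A', ∃ c ∈ (A ⊔ A') ⊓ B, x = e * c := by
    intro x hx
    obtain ⟨hx1, hx2⟩ := Subgroup.mem_inf.1 hx
    have hx1' : x ∈ (((Subgroup.centralizer ((A ⊓ A' : Subgroup G) : Set G) ⊓ B) ⊔ (A ⊓ A') :
        Subgroup G) : Set G) := hx1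
    rw [hBhcoe] at hx1'
    obtain ⟨c, hc, e, he, rfl⟩ := Set.mem_mul.1 hx1'
    have hc' := Subgroup.mem_inf.1 hc
    have hcG : c ∈ A ⊔ A' := by
      have := (A ⊔ A').mul_mem hx2 ((A ⊔ A').inv_mem (hEG1 he))
      simpa [mul_assoc] using this
    refine ⟨e, he, c, Subgroup.mem_inf.2 ⟨hcG, hc'.2⟩, ?_⟩
    exact (Subgroup.mem_centralizer_iff.1 hc'.1 e he).symm
  -- `Bh ⊓ G₁ = E ⊔ (G₁ ⊓ B)`
  have heq : ((Subgroup.centralizer ((A ⊓ A' : Subgroup G) : Set G) ⊓ B) ⊔ (A ⊓ A')) ⊓ (A ⊔ A') =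
      (A ⊓ A') ⊔ ((A ⊔ A') ⊓ B) := by
    apply le_antisymm
    · intro x hx
      obtain ⟨e, he, c, hc, rfl⟩ := hdecomp x hx
      exact Subgroup.mul_mem _ ((le_sup_left : A ⊓ A' ≤ _) he)
        ((le_sup_right : (A ⊔ A') ⊓ B ≤ (A ⊓ A') ⊔ ((A ⊔ A') ⊓ B)) hc)
    · apply sup_le
      · exact le_inf le_sup_right hEG1
      · exact le_inf ((le_inf (inf_le_left.trans hG1CE) inf_le_right).trans le_sup_left) inf_le_left
  have hdecomp' : ∀ x, x ∈ (A ⊓ A') ⊔ ((A ⊔ A') ⊓ B) →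
      ∃ e ∈ A ⊓ A', ∃ c ∈ (A ⊔ A') ⊓ B, x = e * c := fun x hx => hdecomp x (heq ▸ hx)
  have hcard : Nat.card ↥((A ⊓ A') ⊔ ((A ⊔ A') ⊓ B) : Subgroup G) = Nat.card A := by
    rw [← heq]; exact hsplit
  -- abelian
  have hab : (A ⊓ A') ⊔ ((A ⊔ A') ⊓ B) ≤
      Subgroup.centralizer (((A ⊓ A') ⊔ ((A ⊔ A') ⊓ B) : Subgroup G) : Set G) := by
    have hle : (A ⊓ A') ⊔ ((A ⊔ A') ⊓ B) ≤
        (Subgroup.centralizer ((A ⊓ A' : Subgroup G) : Set G) ⊓ B) ⊔ (A ⊓ A') := by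
      rw [← heq]; exact inf_le_left
    intro x hx
    rw [Subgroup.mem_centralizer_iff]
    intro z hz
    have := hBh.1.is_comm.comm (⟨z, hle hz⟩ : ↥((Subgroup.centralizer ((A ⊓ A' : Subgroup G) : Set G) ⊓ B) ⊔
      (A ⊓ A') : Subgroup G)) ⟨x, hle hx⟩
    exact congrArg Subtype.val this
  refine ⟨hmemS _ (sup_le hEG1 inf_le_left) hab hcard.ge, ?_, ?_, ?_⟩
  · ext x
    constructor
    · intro hx
      obtain ⟨e, he, c, hc, rfl⟩ := hdecomp' x hx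
      exact Set.mul_mem_mul he hc
    · intro hx
      obtain ⟨e, he, c, hc, rfl⟩ := Set.mem_mul.1 hx
      exact Subgroup.mul_mem _ ((le_sup_left : A ⊓ A' ≤ _) he)
        ((le_sup_right : (A ⊔ A') ⊓ B ≤ (A ⊓ A') ⊔ ((A ⊔ A') ⊓ B)) hc)
  · apply le_antisymm
    · intro x hx
      obtain ⟨hx1, hx2⟩ := Subgroup.mem_inf.1 hx
      obtain ⟨e, he, c, hc, rfl⟩ := hdecomp' x hx1
      have heA : e ∈ A := (Subgroup.mem_inf.1 he).1
      have hcA : c ∈ A := by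
        have := A.mul_mem (A.inv_mem heA) hx2
        simpa using this
      have hcA' : c ∈ A' := hD (Subgroup.mem_inf.2 ⟨hcA, (Subgroup.mem_inf.1 hc).2⟩)
      exact Subgroup.mul_mem _ he (Subgroup.mem_inf.2 ⟨hcA, hcA'⟩)
    · exact le_inf le_sup_left inf_le_left
  · apply le_antisymm
    · intro x hx
      obtain ⟨hx1, hx2⟩ := Subgroup.mem_inf.1 hx
      obtain ⟨e, he, c, hc, rfl⟩ := hdecomp' x hx1
      have heA : e ∈ A' := (Subgroup.mem_inf.1 he).2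
      have hcA' : c ∈ A' := by
        have := A'.mul_mem (A'.inv_mem heA) hx2
        simpa using this
      have hcA : c ∈ A := hD' (Subgroup.mem_inf.2 ⟨hcA', (Subgroup.mem_inf.1 hc).2⟩)
      exact Subgroup.mul_mem _ he (Subgroup.mem_inf.2 ⟨hcA, hcA'⟩)
    · exact le_inf le_sup_left inf_le_right

end Cfsg.Agent.Helper23.MCL
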