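import Mathlib
import Cfsg.Prelude.Def_BaumannBlocks
import Cfsg.Prelude.Def_PLocal
import Cfsg.Agent.Lib.Helper15.MinimalCL
import Cfsg.Agent.Lib.Helper23.MCLDefs
import Cfsg.Agent.Lib.MCL.MCLTONECore
import Cfsg.Agent.Lib.MCL.MCLPAIR
import Cfsg.Agent.Lib.MCL.MCLFONE
import Cfsg.Agent.Lib.MCL.MCLMEM
import Cfsg.Agent.Lib.MCL.MCLSPLIT

/-!
# S3008 part (2), PIECE MCL-TONE (helper14): the replacement `Astar = E (G₁ ∩ B)`.
-/

set_option autoImplicit false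
set_option linter.unusedSectionVars false
set_option linter.unusedVariables false

namespace Cfsg.Agent.Helper23.MCL

open scoped Pointwise
open Cfsg.Agent.Helper15

variable {G : Type*} [Group G]

/-- PIECE MCL-TONE [L5, uses PAIR, FONE, MEM, SPLIT]: the replacement `Astar = E (G₁ ∩ B)`. -/
theorem replacement [Finite G] {A A' B : Subgroup G} (hA : IsS A) (hA' : IsS A')
    (hB : B ∈ Cfsg.maxAbelianSubgroups G)
    (hD : A ⊓ B ≤ A') (hD' : A' ⊓ B ≤ A)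
    (hB0 : Subgroup.centralizer (A : Set G) ⊓ B ≤ Subgroup.centralizer (A' : Set G)) :
    IsS ((A ⊓ A') ⊔ ((A ⊔ A') ⊓ B)) ∧
    (((A ⊓ A') ⊔ ((A ⊔ A') ⊓ B) : Subgroup G) : Set G) =
      ((A ⊓ A' : Subgroup G) : Set G) * (((A ⊔ A') ⊓ B : Subgroup G) : Set G) ∧
    ((A ⊓ A') ⊔ ((A ⊔ A') ⊓ B)) ⊓ A = A ⊓ A' ∧
    ((A ⊓ A') ⊔ ((A ⊔ A') ⊓ B)) ⊓ A' = A ⊓ A' := by
  obtain ⟨hCL, hcoe, hE, hcen, hCE, hCEcoe⟩ := pair_facts hA hA'
  obtain ⟨hBh, hBhcoe, hBhcard⟩ := abcd_maxAbelian hE hB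
  exact mcl_tone_core hD hD' hCE hBh hBhcoe (card_bhat_inf_sup hA hA' hB hB0)
    (fun X hX hXab hcard => isS_of_le_sup hA hA' hX hXab hcard)

end Cfsg.Agent.Helper23.MCL
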