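import Mathlib
import Cfsg.Prelude.Def_BaumannBlocks
import Cfsg.Prelude.Def_PLocal
import Cfsg.Agent.Lib.Helper15.MinimalCL
import Cfsg.Agent.Lib.Helper23.MCLDefs
import Cfsg.Agent.Lib.MCL.MCLCONJ
import Cfsg.Agent.Lib.MCL.MCLPAIR
import Cfsg.Agent.Lib.MCL.MCLORD
import Cfsg.Agent.Lib.MCL.MCLTONE
import Cfsg.Agent.Lib.MCL.MCLREPLCore

/-!
PIECE MCL-REPL of S3008 part (2) (owner helper23): the replacement step for `A' = b A b⁻¹`, `b ∈ B`.
-/

set_option autoImplicit false
set_option linter.unusedSectionVars false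
set_option linter.unusedVariables false

namespace Cfsg.Agent.Helper23.MCL

open scoped Pointwise
open Cfsg.Agent.Helper15

variable {G : Type*} [Group G]

local notation "cz" H => Subgroup.centralizer ((H : Subgroup _) : Set _)

/-- PIECE MCL-REPL [L6, uses CONJ, PAIR, ORD, TONE]: the replacement step for `A' = b A b⁻¹`, `b ∈ B`
(`hD`, `hD'`, `hB0` of `replacement` hold because `b` centralises `B`). -/
theorem exists_repl [Finite G] {A B : Subgroup G} (hA : IsS A)
    (hB : B ∈ Cfsg.maxAbelianSubgroups G) {b : G} (hb : b ∈ B) :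
    ∃ Astar : Subgroup G, IsS Astar ∧ Repl A (cj b A) Astar (A ⊓ cj b A) b := by
  have hcj : IsS (cj b A) := isS_cj hA b
  have hp := pair_facts hA hcj
  exact mcl_repl_core hA hB hb hcj ⟨hp.2.1, hp.2.2.2.1⟩ (fun hX hH => card_le_of_isS hX hH)
    (fun hD hD' hB0 => replacement hA hcj hB hD hD' hB0)

end Cfsg.Agent.Helper23.MCL
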