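import Mathlib
import Cfsg.Prelude.Def_BaumannBlocks
import Cfsg.Prelude.Def_PLocal
import Cfsg.Agent.Lib.Helper15.MinimalCL
import Cfsg.Agent.Lib.Helper23.MCLDefs
import Cfsg.Agent.Lib.MCL.MCLBNORM

/-!
# S3008 part (2), piece MCL-MEMSTAR (helper19): `Astar / E = C_{G₁/E}(b)`.
-/

set_option autoImplicit false
set_option linter.unusedSectionVars false
set_option linter.unusedVariables false

namespace Cfsg.Agent.Helper23.MCL

open scoped Pointwise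
open Cfsg.Agent.Helper15

variable {G : Type*} [Group G]

theorem mem_star_of_comm_mem [Finite G] {A A' Astar E : Subgroup G} {b : G}
    (h : Repl A A' Astar E b) {y : G} (hy : y ∈ A ⊔ A') (hyb : y⁻¹ * (b * y * b⁻¹) ∈ E) :
    y ∈ Astar := by
  obtain ⟨h1, -, -, h4, h5⟩ := repl_facts h
  have hy' : y ∈ ((A ⊔ A' : Subgroup G) : Set G) := hy
  rw [h1] at hy'
  obtain ⟨u, hu, z, hz, rfl⟩ := Set.mem_mul.1 hy'
  have hu : u ∈ A := hu
  have hz : z ∈ Astar := hz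
  have hez : z⁻¹ * (b * z * b⁻¹) ∈ E := h5 z hz
  -- `f = z⁻¹ w z ∈ E`, `w = u⁻¹ (b u b⁻¹)`
  have hf : z⁻¹ * (u⁻¹ * (b * u * b⁻¹)) * z ∈ E := by
    have e1 : z⁻¹ * (u⁻¹ * (b * u * b⁻¹)) * z =
        ((u * z)⁻¹ * (b * (u * z) * b⁻¹)) * (z⁻¹ * (b * z * b⁻¹))⁻¹ := by group
    rw [e1]
    exact E.mul_mem hyb (E.inv_mem hez)
  -- `E` is central in `A ⊔ A'`
  have hEcent : ∀ f ∈ E, ∀ g ∈ A ⊔ A', g * f = f * g := by
    intro f hf g hg
    have : f ∈ (A ⊔ A') ⊓ Subgroup.centralizer ((A ⊔ A' : Subgroup G) : Set G) := by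
      rw [h.center]; exact hf
    exact (Subgroup.mem_centralizer_iff.1 this.2) g hg
  have hzG : z ∈ A ⊔ A' := h.star_le hz
  have hw : u⁻¹ * (b * u * b⁻¹) ∈ E := by
    have e2 : u⁻¹ * (b * u * b⁻¹) =
        z * (z⁻¹ * (u⁻¹ * (b * u * b⁻¹)) * z) * z⁻¹ := by group
    rw [e2, hEcent _ hf z hzG, mul_assoc, mul_inv_cancel, mul_one]
    exact hf
  have hEA : E ≤ A := by rw [h.hE]; exact inf_le_left
  have hbuA : b * u * b⁻¹ ∈ A := by
    have e3 : b * u * b⁻¹ = u * (u⁻¹ * (b * u * b⁻¹)) := by group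
    rw [e3]
    exact A.mul_mem hu (hEA hw)
  have hbuA' : b * u * b⁻¹ ∈ A' := by
    rw [h.hA']
    exact ⟨u, hu, by rw [MulEquiv.coe_toMonoidHom, MulAut.conj_apply]⟩
  have hbuE : b * u * b⁻¹ ∈ E := by
    rw [h.hE]
    exact ⟨hbuA, hbuA'⟩
  have huE : u ∈ E := by
    rw [← h4] at hbuE
    obtain ⟨e, he, hee⟩ := hbuE
    rw [MulEquiv.coe_toMonoidHom, MulAut.conj_apply] at hee
    have : e = u := by
      have := congrArg (fun t => b⁻¹ * t * b) hee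
      simpa [mul_assoc] using this
    rwa [← this]
  exact Astar.mul_mem (h.E_le huE) hz

end Cfsg.Agent.Helper23.MCL
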