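import Mathlib
import Cfsg.Prelude.Def_BaumannBlocks
import Cfsg.Prelude.Def_PLocal
import Cfsg.Agent.Lib.Helper15.MinimalCL
import Cfsg.Agent.Lib.Helper23.MCLDefs

/-!
# S3008 part (2), PIECE MCL-STRICT (helper14), core: the statement with the two facts used from
MCL-BNORM (`b` normalises `A ⊔ A'` and `E`) and MCL-MEMSTAR as hypotheses.
-/

set_option autoImplicit false
set_option linter.unusedSectionVars false
set_option linter.unusedVariables false

namespace Cfsg.Agent.Helper23.MCL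

open scoped Pointwise
open Cfsg.Agent.Helper15

variable {G : Type*} [Group G]

/-- the iteration `y ↦ y⁻¹ b y b⁻¹` starting from `x` -/
def mcl_strict_seq (b x : G) : ℕ → G
  | 0 => x
  | (k + 1) => (mcl_strict_seq b x k)⁻¹ * (b * mcl_strict_seq b x k * b⁻¹)

theorem mcl_strict_seq_zero (b x : G) : mcl_strict_seq b x 0 = x := rfl

theorem mcl_strict_seq_succ (b x : G) (k : ℕ) :
    mcl_strict_seq b x (k + 1) =
      (mcl_strict_seq b x k)⁻¹ * (b * mcl_strict_seq b x k * b⁻¹) := rfl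

theorem mcl_strict_anti (γ : ℕ → Subgroup G) (hanti : ∀ j, γ (j + 1) ≤ γ j) {j k : ℕ}
    (hjk : j ≤ k) : γ k ≤ γ j :=
  antitone_nat_of_succ_le hanti hjk

/-- core of MCL-STRICT -/
theorem mcl_strict_core [Finite G] {A A' Astar E : Subgroup G} {b : G}
    (h : Repl A A' Astar E b) (hne : A' ≠ A)
    (hG1 : cj b (A ⊔ A') = A ⊔ A') (hcE : cj b E = E)
    (hmem : ∀ y ∈ A ⊔ A', y⁻¹ * (b * y * b⁻¹) ∈ E → y ∈ Astar)
    (γ : ℕ → Subgroup G) (n : ℕ) (h0 : γ 0 = ⊤)
    (hanti : ∀ j, γ (j + 1) ≤ γ j)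
    (hcomm : ∀ j, ∀ y ∈ γ j, ∀ c : G, y⁻¹ * (c * y * c⁻¹) ∈ γ (j + 1))
    (hn : γ n = ⊥) :
    ∃ j < n, Nat.card ↥(A ⊓ γ j : Subgroup G) < Nat.card ↥(Astar ⊓ γ j : Subgroup G) := by
  classical
  have hantiM : ∀ {j k : ℕ}, j ≤ k → γ k ≤ γ j := fun hjk => mcl_strict_anti γ hanti hjk
  have hbot : ∀ j, n ≤ j → γ j = ⊥ := fun j hj => le_bot_iff.1 (hn ▸ hantiM hj)
  -- `A ≰ E`
  have hAE : ¬ A ≤ E := by
    intro hle
    have hAA' : A ≤ A' := hle.trans (h.hE ▸ inf_le_right)
    have hcard : Nat.card A' = Nat.card A := by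
      rw [h.hA']; exact card_map_conj A b
    exact hne (Subgroup.eq_of_le_of_card_ge hAA' hcard.le).symm
  -- the largest `i` with `A ⊓ γ i ≰ E`
  set P : ℕ → Prop := fun i => ¬ (A ⊓ γ i ≤ E) with hP
  have hP0 : P 0 := by
    simp only [hP, h0, inf_top_eq]; exact hAE
  set i := Nat.findGreatest P n with hi
  have hPi : P i := Nat.findGreatest_spec (Nat.zero_le n) hP0
  have hgt : ∀ j, i < j → A ⊓ γ j ≤ E := by
    intro j hj
    by_cases hjn : j ≤ n
    · have := Nat.findGreatest_is_greatest (P := P) hj hjn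
      simpa [hP] using this
    · rw [hbot j (le_of_not_ge hjn)]; simp
  obtain ⟨x, hx, hxE⟩ := SetLike.not_le_iff_exists.1 hPi
  have hxA : x ∈ A := (Subgroup.mem_inf.1 hx).1
  have hxγ : x ∈ γ i := (Subgroup.mem_inf.1 hx).2
  -- the sequence
  set y := mcl_strict_seq b x with hy
  have hyγ : ∀ k, y k ∈ γ (i + k) := by
    intro k
    induction k with
    | zero => simpa [hy, mcl_strict_seq_zero] using hxγ
    | succ k ih =>
      rw [hy, mcl_strict_seq_succ, ← add_assoc]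
      exact hcomm _ _ ih b
  have hyG : ∀ k, y k ∈ A ⊔ A' := by
    intro k
    induction k with
    | zero =>
      rw [hy, mcl_strict_seq_zero]; exact (le_sup_left : A ≤ A ⊔ A') hxA
    | succ k ih =>
      rw [hy, mcl_strict_seq_succ]
      refine Subgroup.mul_mem _ (Subgroup.inv_mem _ ih) ?_
      have := conj_mem_map_conj (H := A ⊔ A') b ih
      rw [show (A ⊔ A').map (MulAut.conj b).toMonoidHom = A ⊔ A' from hG1] at this
      exact this
  -- `y 1 ∉ E`
  have hy1 : y 1 ∉ E := by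
    intro hmemE
    rw [hy, mcl_strict_seq_succ, mcl_strict_seq_zero] at hmemE
    have hEA : E ≤ A := h.hE ▸ inf_le_left
    have h1 : b * x * b⁻¹ ∈ A := by
      have := A.mul_mem hxA (hEA hmemE)
      simpa [mul_assoc] using this
    have h2 : b * x * b⁻¹ ∈ A' := by
      rw [h.hA']; exact conj_mem_map_conj b hxA
    have h3 : b * x * b⁻¹ ∈ E := by
      rw [h.hE]; exact Subgroup.mem_inf.2 ⟨h1, h2⟩
    have h4 : b * x * b⁻¹ ∈ cj b E := by rw [hcE]; exact h3
    have h5 := (mem_map_conj_iff (H := E) (g := b) (x := b * x * b⁻¹)).1 h4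
    apply hxE
    simpa [mul_assoc] using h5
  -- the largest `k` with `y k ∉ E`
  set Q : ℕ → Prop := fun k => y k ∉ E with hQ
  have hQlt : ∀ k, Q k → i + k < n := by
    intro k hk
    by_contra hlt
    have := hyγ k
    rw [hbot _ (le_of_not_gt hlt), Subgroup.mem_bot] at this
    exact hk (this ▸ E.one_mem)
  have h1n : 1 ≤ n := by have := hQlt 1 hy1; omega
  set k0 := Nat.findGreatest Q n with hk0
  have hQk0 : Q k0 := Nat.findGreatest_spec h1n hy1
  have hk01 : 1 ≤ k0 := Nat.le_findGreatest h1n hy1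
  have hnQ : ¬ Q (k0 + 1) := by
    intro hq
    have hlt := hQlt _ hq
    exact Nat.findGreatest_is_greatest (P := Q) (Nat.lt_succ_self k0) (by omega) hq
  have hyE : y (k0 + 1) ∈ E := by
    by_contra hc; exact hnQ hc
  have hystar : y k0 ∈ Astar := by
    apply hmem _ (hyG k0)
    have := hyE
    rw [hy, mcl_strict_seq_succ] at this
    exact this
  refine ⟨i + k0, hQlt _ hQk0, ?_⟩
  have hle : A ⊓ γ (i + k0) ≤ Astar ⊓ γ (i + k0) :=
    le_inf ((hgt _ (by omega)).trans h.E_le) inf_le_right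
  by_contra hnlt
  have heq := Subgroup.eq_of_le_of_card_ge hle (not_lt.1 hnlt)
  have hmem' : y k0 ∈ Astar ⊓ γ (i + k0) := Subgroup.mem_inf.2 ⟨hystar, hyγ k0⟩
  rw [← heq] at hmem'
  exact hQk0 (hgt _ (by omega) hmem')

end Cfsg.Agent.Helper23.MCL
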