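import Mathlib
import Cfsg.Prelude.Def_BaumannBlocks
import Cfsg.Prelude.Def_PLocal
import Cfsg.Agent.Lib.Helper15.MinimalCL
import Cfsg.Agent.Lib.Helper23.MCLDefs
import Cfsg.Agent.Lib.MCL.MCLSTRICTCore
import Cfsg.Agent.Lib.MCL.MCLBNORM
import Cfsg.Agent.Lib.MCL.MCLMEMSTAR

/-!
# S3008 part (2), PIECE MCL-STRICT (helper14): if `A' ≠ A` some term of a descending `b`-central series sees
strictly more of `Astar`.
-/

set_option autoImplicit false
set_option linter.unusedSectionVars false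
set_option linter.unusedVariables false

namespace Cfsg.Agent.Helper23.MCL

open scoped Pointwise
open Cfsg.Agent.Helper15

variable {G : Type*} [Group G]

/-- PIECE MCL-STRICT [L3', uses BNORM, MEMSTAR]. -/
theorem exists_card_inf_lt [Finite G] {A A' Astar E : Subgroup G} {b : G}
    (h : Repl A A' Astar E b) (hne : A' ≠ A) (γ : ℕ → Subgroup G) (n : ℕ) (h0 : γ 0 = ⊤)
    (hanti : ∀ j, γ (j + 1) ≤ γ j) (hcomm : ∀ j, ∀ y ∈ γ j, ∀ c : G, y⁻¹ * (c * y * c⁻¹) ∈ γ (j + 1))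
    (hn : γ n = ⊥) (hmono : ∀ j, Nat.card ↥(A ⊓ γ j : Subgroup G) ≤ Nat.card ↥(Astar ⊓ γ j : Subgroup G)) :
    ∃ j < n, Nat.card ↥(A ⊓ γ j : Subgroup G) < Nat.card ↥(Astar ⊓ γ j : Subgroup G) := by
  obtain ⟨-, -, hG1, hcE, -⟩ := repl_facts h
  exact mcl_strict_core h hne hG1 hcE (fun y hy hyb => mem_star_of_comm_mem h hy hyb) γ n h0 hanti
    hcomm hn

end Cfsg.Agent.Helper23.MCL
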