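import Mathlib
import Cfsg.Prelude.Def_BaumannBlocks
import Cfsg.Prelude.Def_PLocal
import Cfsg.Agent.Lib.Helper15.MinimalCL
import Cfsg.Agent.Lib.Helper23.MCLDefs
import Cfsg.Agent.Lib.MCL.MCLPAIR
import Cfsg.Agent.Lib.MCL.MCLKABCore

/-!
# S3008 piece MCL-KAB: abelian subgroups of `K₁ = C(A A')` are small.
-/

set_option autoImplicit false
set_option linter.unusedSectionVars false
set_option linter.unusedVariables false

namespace Cfsg.Agent.Helper23.MCL

open scoped Pointwise
open Cfsg.Agent.Helper15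

variable {G : Type*} [Group G]

theorem card_abelian_le_of_le_centralizer [Finite G] {A A' B T : Subgroup G} (hA : IsS A)
    (hA' : IsS A') (hB : B ∈ Cfsg.maxAbelianSubgroups G)
    (hT : T ≤ Subgroup.centralizer ((A ⊔ A' : Subgroup G) : Set G))
    (hTab : T ≤ Subgroup.centralizer (T : Set G)) :
    Nat.card T * Nat.card A ≤ Nat.card B * Nat.card ↥(A ⊓ A' : Subgroup G) := by
  exact mcl_kab_core hA.1.2 (pair_facts hA hA').2.2.2.1 hB hT hTab

end Cfsg.Agent.Helper23.MCL
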