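import Mathlib
import Cfsg.Agent.Lib.Helper23.MCLDefs

/-!
# S3008 part (2), piece MCL-NORM (helper12): `N(A) ≤ N(C(A))`, and `B ≤ N(A)` when every `b ∈ B`
fixes `A` under conjugation.
-/

set_option autoImplicit false
set_option linter.unusedSectionVars false
set_option linter.unusedVariables false

namespace Cfsg.Agent.Helper23.MCL

open scoped Pointwise
open Cfsg.Agent.Helper15

variable {G : Type*} [Group G]

/-- PIECE MCL-NORM [L1]: `N(A) ≤ N(C(A))`. -/
theorem normalizer_le_normalizer_centralizer (A : Subgroup G) :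
    Subgroup.normalizer (A : Set G) ≤
      Subgroup.normalizer ((Subgroup.centralizer (A : Set G) : Subgroup G) : Set G) := by
  intro g hg
  rw [Subgroup.mem_normalizer_iff] at hg ⊢
  have key : ∀ (g : G), (∀ h, h ∈ A ↔ g * h * g⁻¹ ∈ A) →
      ∀ n, n ∈ Subgroup.centralizer (A : Set G) → g * n * g⁻¹ ∈ Subgroup.centralizer (A : Set G) := by
    intro g hg n hn
    rw [Subgroup.mem_centralizer_iff] at hn ⊢
    intro a ha
    have ha' : g⁻¹ * a * g ∈ A := by
      rw [hg (g⁻¹ * a * g)]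
      have : g * (g⁻¹ * a * g) * g⁻¹ = a := by group
      rw [this]; exact ha
    have h1 := hn (g⁻¹ * a * g) ha'
    -- (g⁻¹ a g) n = n (g⁻¹ a g)
    calc a * (g * n * g⁻¹) = g * ((g⁻¹ * a * g) * n) * g⁻¹ := by group
      _ = g * (n * (g⁻¹ * a * g)) * g⁻¹ := by rw [h1]
      _ = g * n * g⁻¹ * a := by group
  intro n
  constructor
  · exact key g hg n
  · intro hn
    have hg' : ∀ h, h ∈ A ↔ g⁻¹ * h * g⁻¹⁻¹ ∈ A := by
      intro h
      rw [hg (g⁻¹ * h * g⁻¹⁻¹)]
      have : g * (g⁻¹ * h * g⁻¹⁻¹) * g⁻¹ = h := by group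
      rw [this]
    have := key g⁻¹ hg' _ hn
    have e : g⁻¹ * (g * n * g⁻¹) * g⁻¹⁻¹ = n := by group
    rwa [e] at this

theorem le_normalizer_of_cj_eq {A B : Subgroup G} (h : ∀ b ∈ B, cj b A = A) :
    B ≤ Subgroup.normalizer (A : Set G) := by
  intro b hb
  rw [Subgroup.mem_normalizer_iff]
  have hb1 := h b hb
  have hb2 := h b⁻¹ (B.inv_mem hb)
  intro x
  constructor
  · intro hx
    have : b * x * b⁻¹ ∈ cj b A := by
      refine Subgroup.mem_map.2 ⟨x, hx, ?_⟩
      simp [MulAut.conj_apply]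
    rwa [hb1] at this
  · intro hx
    have : b⁻¹ * (b * x * b⁻¹) * b⁻¹⁻¹ ∈ cj b⁻¹ A := by
      refine Subgroup.mem_map.2 ⟨b * x * b⁻¹, hx, ?_⟩
      simp [MulAut.conj_apply]
    rw [hb2] at this
    have e : b⁻¹ * (b * x * b⁻¹) * b⁻¹⁻¹ = x := by group
    rwa [e] at this

end Cfsg.Agent.Helper23.MCL
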